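import Cfsg.Agent.H713.Spor.Tool
import Cfsg.Agent.H419.Spor.M11
import Cfsg.Agent.H419.Spor.M22
import Cfsg.Agent.H419.Spor.M23
import Cfsg.Agent.H419.Spor.Co2
import Cfsg.Agent.H419.Spor.Co3
import Cfsg.Agent.UGT.End.MEleven
import Cfsg.Agent.S2063
import Cfsg.Agent.S2064
import Cfsg.Agent.S2070
import Cfsg.Agent.S2071

/-!
# The rows of `M₁₁`, `M₂₂`, `M₂₃`, `M₂₄`, `Co₂`, `Co₃` (helper713)
-/

set_option autoImplicit false

namespace Cfsg.Agent.H713.Spor.Small

open Cfsg Cfsg.Agent.H713 Cfsg.Agent.H419.Row Cfsg.Agent.H419.Count Cfsg.Agent.H419.TwoTrans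
  Cfsg.Agent.H419.LeechFix Cfsg.Agent.H419.LeechIrr
open Cfsg.Agent.H665.NoPQ
open Cfsg.Agent.SporadicA.Co0Mono Cfsg.Agent.SporadicA.Co1Simple
open Cfsg.Agent.H419.Spor.Mathieu
open Cfsg.Agent.Characters.Core

universe u v

/-- A 2-transitive action of degree `n`, with `n - 1` divisible by `p`. -/
theorem hasDZ_of_two_trans {G : Type*} [Group G] [Finite G] {p : ℕ} [hp : Fact p.Prime]
    (X : Type*) [MulAction G X] [Finite X] (h2 : MulAction.IsMultiplyPretransitive G X 2)
    (hX : 2 ≤ Nat.card X) (hG : (Nat.card G).factorization p = 1) (hpX : p ∣ Nat.card X - 1) :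
    HasDZ p G := by
  obtain ⟨θ, hθ⟩ := exists_irr X h2 hX
  refine dz_of_dvd (n := 1) θ ?_ hG hp.out
  have h1 := hθ 1
  rw [MulAction.fixedBy_one_eq_univ, Nat.card_coe_set_eq, Set.ncard_univ,
    Cfsg.Agent.Blocks.Basic.irr_one_eq_charDegree θ.2] at h1
  have h3 : charDegree (θ : G → ℂ) = Nat.card X - 1 := by
    have h4 : ((charDegree (θ : G → ℂ) : ℕ) : ℂ) = ((Nat.card X - 1 : ℕ) : ℂ) := by
      rw [h1, Nat.cast_sub (by omega)]
      norm_num
    exact_mod_cast h4
  rw [h3, pow_one]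
  exact hpX

theorem row_m11 {K : Type v} [Group K] [Finite K] (h : IsM11 K) : Row.{u, v} K := by
  have : Fact (Nat.Prime 3) := ⟨by norm_num⟩
  obtain ⟨x, hx⟩ := Cfsg.Agent.H419.Spor.M11.exists_six h
  exact Row.of_dz (p := 3) (by norm_num) (Cfsg.Agent.H419.Spor.M11.dz_three h) (y := x)
    (hx ▸ by norm_num) (by rw [hx]; norm_num)

theorem row_m22' : Row.{u, 0} Spor.M22 := by
  have : Fact (Nat.Prime 3) := ⟨by norm_num⟩
  have hfin : Finite Spor.M22 := Nat.finite_of_card_ne_zero (by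
    rw [Cfsg.Agent.SporadicA.MathieuRecog.card_M22]; norm_num)
  exact Row.of_dz (p := 3) (by norm_num) (Cfsg.Agent.H419.Spor.M22.dz_three
    ⟨Cfsg.Agent.SporadicA.MathieuRecog.simple_M22, Cfsg.Agent.SporadicA.MathieuRecog.card_M22⟩)
    (y := Cfsg.Agent.H419.Spor.M22.x6) (by rw [Cfsg.Agent.H419.Spor.M22.x6_order]; norm_num)
    (by rw [Cfsg.Agent.H419.Spor.M22.x6_order]; norm_num)

theorem row_m24' : Row.{u, 0} M24 := by
  have : Fact (Nat.Prime 23) := ⟨by norm_num⟩
  have hcard : Nat.card M24 = 244823040 := Cfsg.Agent.SporadicA.M24Trans.card_M24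
  have h5 := Cfsg.Agent.S0366.result
  refine Row.of_arith_primes (o := 1) (card_mulAut_dvd (by rw [Cfsg.Agent.S2064.result])) fun d hd => ?_
  obtain rfl := Nat.dvd_one.1 hd
  refine ⟨23, by norm_num, by norm_num, ?_, ?_, by norm_num, by rw [hcard]; norm_num⟩
  · rw [hcard]; exact factorization_eq_one (by norm_num) (by norm_num)
  · refine hasDZ_of_two_trans GolayPt (MulAction.isMultiplyPretransitive_of_le (n := 5) (by norm_num)
      (by rw [Nat.card_eq_fintype_card]; decide)) (by rw [Nat.card_eq_fintype_card]; decide)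
      (by rw [hcard]; exact factorization_eq_one (by norm_num) (by norm_num))
      (by rw [Nat.card_eq_fintype_card]; decide)

theorem row_m23' : Row.{u, 0} Spor.M23 := by
  have : Fact (Nat.Prime 11) := ⟨by norm_num⟩
  have hcard : Nat.card Spor.M23 = 10200960 := Cfsg.Agent.SporadicA.MathieuRecog.card_M23
  have h5 := Cfsg.Agent.S0366.result
  refine Row.of_arith_primes (o := 1) (card_mulAut_dvd (by rw [Cfsg.Agent.S2063.result])) fun d hd => ?_
  obtain rfl := Nat.dvd_one.1 hd
  refine ⟨11, by norm_num, by norm_num, ?_, ?_, by norm_num, by rw [hcard]; norm_num⟩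
  · rw [hcard]; exact factorization_eq_one (by norm_num) (by norm_num)
  · refine HasDZ.mulEquiv Cfsg.Agent.H419.Spor.M23.e ?_
    have hcard' : Nat.card Cfsg.Agent.H419.Spor.M23.St = 10200960 := by
      rw [Nat.card_congr Cfsg.Agent.H419.Spor.M23.e.toEquiv, hcard]
    have h1 : MulAction.IsPretransitive M24 GolayPt := by
      rw [← MulAction.is_one_pretransitive_iff]
      exact MulAction.isMultiplyPretransitive_of_le (n := 5) (by norm_num) (by
        rw [Nat.card_eq_fintype_card]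
        decide)
    have h4 : MulAction.IsMultiplyPretransitive Cfsg.Agent.H419.Spor.M23.St
        (SubMulAction.ofStabilizer M24 (none : GolayPt)) 4 :=
      SubMulAction.ofStabilizer.isMultiplyPretransitive.1 h5
    have h23 : Nat.card (SubMulAction.ofStabilizer M24 (none : GolayPt)) = 23 := by
      rw [SubMulAction.nat_card_ofStabilizer_eq, Nat.card_eq_fintype_card]
      decide
    refine hasDZ_of_two_trans (SubMulAction.ofStabilizer M24 (none : GolayPt))
      (MulAction.isMultiplyPretransitive_of_le (n := 4) (by norm_num) (by rw [h23]; norm_num))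
      (by rw [h23]; norm_num)
      (by rw [hcard']; exact factorization_eq_one (by norm_num) (by norm_num))
      (by rw [h23]; norm_num)

section Co

theorem hasDZ_of_lchi {G : Type*} [Group G] [Finite G] {f : G →* Co0} {μ : IrrCharacter G}
    (hG : (Nat.card G).factorization 23 = 1)
    (hμ : ∀ g, lchi f g = 1 + (μ : G → ℂ) g) : HasDZ 23 G := by
  have : Fact (Nat.Prime 23) := ⟨by norm_num⟩
  refine dz_of_dvd (n := 1) μ ?_ hG (by norm_num)
  have h1 := hμ 1
  have h6 : lchi f 1 = 24 := by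
    rw [lchi, map_one, Cfsg.Agent.SigZeroCo2.Lin.tr8_one]
    norm_num
  rw [h6, Cfsg.Agent.Blocks.Basic.irr_one_eq_charDegree μ.2] at h1
  have h8 : charDegree (μ : G → ℂ) = 23 := by
    have : (24 : ℂ) = ((1 + charDegree (μ : G → ℂ) : ℕ) : ℂ) := by rw [h1]; push_cast; ring
    have h9 : 24 = 1 + charDegree (μ : G → ℂ) := by exact_mod_cast this
    omega
  rw [h8]
  norm_num

theorem row_co3' : Row.{u, 0} Spor.Co3 := by
  have : Fact (Nat.Prime 23) := ⟨by norm_num⟩
  obtain ⟨hs, hcard⟩ := Cfsg.Agent.OddHalf.D8.RowCo3.card_of (K := Spor.Co3) ⟨MulEquiv.refl _⟩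
  have hfin : Finite Spor.Co3 := Nat.finite_of_card_ne_zero (by rw [hcard]; norm_num)
  have hfac : (Nat.card Spor.Co3).factorization 23 = 1 := by
    rw [hcard]; exact factorization_eq_one (by norm_num) (by norm_num)
  refine Row.of_arith_primes (o := 1) (card_mulAut_dvd (by rw [Cfsg.Agent.S2071.result])) fun d hd => ?_
  obtain rfl := Nat.dvd_one.1 hd
  refine ⟨23, by norm_num, by norm_num, hfac, ?_, by norm_num, by rw [hcard]; norm_num⟩
  obtain ⟨μ, hμ⟩ := irr23 Cfsg.Agent.H419.Spor.Co3.inc Cfsg.Agent.H419.Spor.Co3.inc_injective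
    (by rw [hcard]; norm_num) Cfsg.Agent.H419.Spor.Co3.k ⟨Cfsg.Agent.H419.Spor.Co3.y14, fun h => by
      have := Cfsg.Agent.H419.Spor.Co3.order
      rw [h, orderOf_one] at this
      norm_num at this⟩ Cfsg.Agent.H419.Spor.Co3.inc_k (w := Spor.leechV) (fun h => by
        have := congrArg (fun v : leechLattice => (v : GolayPt → ℤ) none) h
        exact absurd this (by decide)) Cfsg.Agent.H419.Spor.Co3.inc_fix
  exact hasDZ_of_lchi hfac hμ

theorem row_co2' : Row.{u, 0} Spor.Co2 := by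
  have : Fact (Nat.Prime 23) := ⟨by norm_num⟩
  have hs : IsSimpleGroup Spor.Co2 := Cfsg.Agent.Schreier.CoTwoStab.isSimpleGroup
  have hcard : Nat.card Spor.Co2 = 42305421312000 := Cfsg.Agent.BiChar.Small.card_Co2
  have hfin : Finite Spor.Co2 := Nat.finite_of_card_ne_zero (by rw [hcard]; norm_num)
  have hfac : (Nat.card Spor.Co2).factorization 23 = 1 := by
    rw [hcard]; exact factorization_eq_one (by norm_num) (by norm_num)
  refine Row.of_arith_primes (o := 1) (card_mulAut_dvd (by rw [Cfsg.Agent.S2070.result])) fun d hd => ?_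
  obtain rfl := Nat.dvd_one.1 hd
  refine ⟨23, by norm_num, by norm_num, hfac, ?_, by norm_num, by rw [hcard]; norm_num⟩
  obtain ⟨μ, hμ⟩ := irr23 Cfsg.Agent.H419.Spor.Co2.inc Cfsg.Agent.H419.Spor.Co2.inc_injective
    (by rw [hcard]; norm_num) Cfsg.Agent.H419.Spor.Co2.k ⟨Cfsg.Agent.H419.Spor.Co3.y14, fun h => by
      have := Cfsg.Agent.H419.Spor.Co2.order
      rw [h, orderOf_one] at this
      norm_num at this⟩ Cfsg.Agent.H419.Spor.Co2.inc_k (w := Cfsg.Agent.H419.Spor.Co2.leechW) (fun h => by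
        have := congrArg (fun v : leechLattice => (v : GolayPt → ℤ) none) h
        exact absurd this (by decide)) Cfsg.Agent.H419.Spor.Co2.inc_fix
  exact hasDZ_of_lchi hfac hμ

end Co

section

variable {S : Type v} [Group S]

theorem row_m22 (h : Spor.IsoM22 S) : Row.{u, v} S := by
  obtain ⟨e⟩ := h
  exact Row.mulEquiv row_m22' e.symm

theorem row_m23 (h : Spor.IsoM23 S) : Row.{u, v} S := by
  obtain ⟨e⟩ := h
  exact Row.mulEquiv row_m23' e.symm

theorem row_m24 (h : Spor.IsoM24 S) : Row.{u, v} S := by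
  obtain ⟨e⟩ := h
  exact Row.mulEquiv row_m24' e.symm

theorem row_co2 (h : Spor.IsoCo2 S) : Row.{u, v} S := by
  obtain ⟨e⟩ := h
  exact Row.mulEquiv row_co2' e.symm

theorem row_co3 (h : Spor.IsoCo3 S) : Row.{u, v} S := by
  obtain ⟨e⟩ := h
  exact Row.mulEquiv row_co3' e.symm

theorem row_m11_iso (h : Spor.IsoM11 S) : Row.{u, v} S := by
  have h1 : Cfsg.IsM11 S := Cfsg.Agent.UGT.End.MEleven.isM11 h
  have hfin : Finite S := Nat.finite_of_card_ne_zero (by rw [h1.2]; norm_num)
  exact row_m11 h1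

end

end Cfsg.Agent.H713.Spor.Small
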