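import Cfsg.Agent.H713.Spor.HS
import Cfsg.Agent.H419.Spor.McL
import Cfsg.Agent.SporadicRecognition.McLAssemble

/-!
# `McL`: a character of degree 252, and the row (helper713)
-/

set_option autoImplicit false

namespace Cfsg.Agent.H713.Spor.McL

open MulAction Cfsg Cfsg.Agent.H713 Cfsg.Agent.Characters.Core
open Cfsg.Agent.Leech.Co0Elts Cfsg.Agent.Leech.Basic Cfsg.Agent.SporadicRecognition.RankThree
  Cfsg.Agent.SporadicRecognition.TwoEmb Cfsg.Agent.SporadicRecognition.HSRank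
  Cfsg.Agent.SporadicRecognition.HSParam Cfsg.Agent.SporadicRecognition.RankThreeOf
  Cfsg.Agent.SporadicRecognition.McLAssemble
open Cfsg.Agent.H419.LeechIrr Cfsg.Agent.H419.LeechFix Cfsg.Agent.H665.NoPQ
open Cfsg.Agent.SporadicA.Co0Mono (permCo0 permCo0_smul)
open Cfsg.Agent.Blocks.Basic (irr_one_eq_charDegree charDegree_pos)

universe u v

theorem hK' : K Spor.leechV Spor.leechU = K (-Spor.leechV) Spor.leechU := k_neg _ _

/-- `McL` as a joint stabilizer -/
def mclEquiv : ↥Spor.McL ≃* ↥(K (-Spor.leechV) Spor.leechU) :=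
  (kEquiv Spor.leechV Spor.leechU).trans (MulEquiv.subgroupCongr hK')

theorem facts : IsSimpleGroup ↥(K (-Spor.leechV) Spor.leechU) ∧
    Nat.card ↥(K (-Spor.leechV) Spor.leechU) = 898128000 := by
  obtain ⟨hs, hc⟩ := Cfsg.Agent.S0404.result _ _ norm_U norm_W dot_UW
  have hK : K (-Spor.leechV) Spor.leechU = K Spor.leechU (-(Spor.leechV + Spor.leechU)) := by
    rw [← k_neg, k_eq']
  change IsSimpleGroup ↥(K Spor.leechU (-(Spor.leechV + Spor.leechU))) at hs
  change Nat.card ↥(K Spor.leechU (-(Spor.leechV + Spor.leechU))) = 898128000 at hc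
  rw [← hK] at hs hc
  exact ⟨hs, hc⟩

theorem perm_fixU (s : St2) : permCo0 ((s : St1) : M24) • Spor.leechU = Spor.leechU := by
  apply Subtype.ext
  rw [permCo0_smul]
  funext i
  have hs : (((s : St1) : M24) : Equiv.Perm GolayPt) none = none := (s : St1).2
  have hs0 : (((s : St1) : M24) : Equiv.Perm GolayPt) (some 0) = some 0 := congrArg Subtype.val s.2
  show Spor.vecU ((((s : St1) : M24) : Equiv.Perm GolayPt).symm i) = Spor.vecU i
  unfold Spor.vecU
  have h1 : (((s : St1) : M24) : Equiv.Perm GolayPt).symm i = none ↔ i = none := by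
    rw [Equiv.symm_apply_eq, hs]
  have h2 : (((s : St1) : M24) : Equiv.Perm GolayPt).symm i = some 0 ↔ i = some 0 := by
    rw [Equiv.symm_apply_eq, hs0]
  simp only [h1, h2]

/-- `M22` in `McL`. -/
noncomputable def k : St2 →* ↥(K (-Spor.leechV) Spor.leechU) where
  toFun s := ⟨permCo0 ((s : St1) : M24), by
    rw [Subgroup.mem_inf, mem_stabilizer_iff, mem_stabilizer_iff, smul_neg_co0,
      Cfsg.Agent.H419.Spor.HS.perm_fixV s, perm_fixU s]
    exact ⟨rfl, rfl⟩⟩
  map_one' := by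
    apply Subtype.ext
    show permCo0 (((1 : St2) : St1) : M24) = 1
    rw [Subgroup.coe_one, Subgroup.coe_one, map_one]
  map_mul' a b := by
    apply Subtype.ext
    show permCo0 ((a * b : St2) : St1) = permCo0 ((a : St1) : M24) * permCo0 ((b : St1) : M24)
    rw [Subgroup.coe_mul, Subgroup.coe_mul, map_mul]

theorem exists_22 : ∃ μ : IrrCharacter ↥(K (-Spor.leechV) Spor.leechU),
    (μ : ↥(K (-Spor.leechV) Spor.leechU) → ℂ) ≠ 1 ∧
    ∀ g, lchi (K (-Spor.leechV) Spor.leechU).subtype g =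
      ((2 : ℕ) : ℂ) + (μ : ↥(K (-Spor.leechV) Spor.leechU) → ℂ) g := by
  obtain ⟨hs, hcard⟩ := facts
  have hfin : Finite ↥(K (-Spor.leechV) Spor.leechU) :=
    Nat.finite_of_card_ne_zero (by rw [hcard]; norm_num)
  obtain ⟨μ, hμ⟩ := irr22 (G := ↥(K (-Spor.leechV) Spor.leechU))
    (K (-Spor.leechV) Spor.leechU).subtype (Subgroup.subtype_injective _)
    (by rw [hcard]; norm_num) (by rw [hcard]; norm_num) k
    ⟨Cfsg.Agent.H419.Spor.HS.y6, fun h => by
      have h0 := Cfsg.Agent.H419.Spor.HS.y6_order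
      have h1 : permCo0 ((Cfsg.Agent.H419.Spor.HS.y6 : St1) : M24) = permCo0 1 := by
        rw [map_one]
        exact congrArg Subtype.val h
      have h2 := Cfsg.Agent.CoOneType.Thirteen.permCo0_injective h1
      have h3 : Cfsg.Agent.H419.Spor.HS.y6 = 1 := Subtype.ext (Subtype.ext h2)
      rw [h3, orderOf_one] at h0
      norm_num at h0⟩ (fun s => rfl) (w := Spor.leechU) (fun h => by
      have := congrArg (fun v : leechLattice => (v : GolayPt → ℤ) none) h
      exact absurd this (by decide)) (fun g => g.2.2)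
  refine ⟨μ, ?_, fun g => by rw [hμ g]; norm_num⟩
  intro h
  have h1 := HS.degree_of_lchi (d := 2) (f := (K (-Spor.leechV) Spor.leechU).subtype) (μ := μ)
    (fun g => by rw [hμ g]; norm_num)
  have h2 := irr_one_eq_charDegree μ.2
  rw [h, Pi.one_apply] at h2
  have h3 : 1 = charDegree (μ : ↥(K (-Spor.leechV) Spor.leechU) → ℂ) := by
    rw [h]
    exact_mod_cast h2
  omega

theorem exists_252 : ∃ χ : IrrCharacter ↥(K (-Spor.leechV) Spor.leechU),
    charDegree (χ : ↥(K (-Spor.leechV) Spor.leechU) → ℂ) = 252 := by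
  classical
  obtain ⟨hs, hc⟩ := facts
  obtain ⟨h1, h2⟩ := Cfsg.Agent.S1580.result (-Spor.leechV) Spor.leechU norm_negV ⟨norm_U, norm_sub⟩
  have hS := fun x hx => Cfsg.Agent.S1581.result (-Spor.leechV) Spor.leechU x norm_negV ⟨norm_U, norm_sub⟩ hx
  set u : ↥leechLattice := -Spor.leechV with hu
  set v : ↥leechLattice := Spor.leechU with hv
  set X : Set ↥leechLattice := {x : ↥leechLattice | sqNorm (x : GolayPt → ℤ) = 32 ∧
    sqNorm ((u - x) : GolayPt → ℤ) = 32 ∧ dotInt (v : GolayPt → ℤ) (x : GolayPt → ℤ) = 16} with hXdef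
  have hX : ∀ g ∈ K u v, ∀ x ∈ X, g • x ∈ X := by
    rintro g ⟨hgu, hgv⟩ x ⟨hx1, hx2, hx3⟩
    refine ⟨?_, ?_, ?_⟩
    · rw [sqNorm_smul]; exact hx1
    · have h3 := sqNorm_smul g (u - x)
      have h4 : g • (u - x) = u - g • x := by
        rw [sub_eq_add_neg, smul_add_co0 g u (-x), smul_neg_co0 g x, show g • u = u from hgu,
          ← sub_eq_add_neg]
      rw [h4] at h3
      exact h3.trans hx2
    · have := dotInt_smul g v x
      rw [show g • v = v from hgv] at this
      rw [this]; exact hx3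
  obtain ⟨x0, hx0⟩ : X.Nonempty := by
    rw [Set.nonempty_iff_ne_empty]
    intro h
    rw [h, Set.ncard_empty] at h1
    norm_num at h1
  have hfinX : X.Finite := Set.finite_of_ncard_pos (by rw [h1]; norm_num)
  obtain ⟨h3, h4, h5⟩ := hS x0 hx0
  have hx00 : dotInt (x0 : GolayPt → ℤ) (x0 : GolayPt → ℤ) = 32 := by
    rw [← hx0.1]
    exact Finset.sum_congr rfl fun i _ => (sq _).symm
  have hdich : ∀ y ∈ X, y ≠ x0 → dotInt (x0 : GolayPt → ℤ) (y : GolayPt → ℤ) = 8 ∨
      dotInt (x0 : GolayPt → ℤ) (y : GolayPt → ℤ) = 16 := by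
    intro y hy hne
    set S8 : Set ↥leechLattice := {y | y ∈ X ∧ dotInt (x0 : GolayPt → ℤ) (y : GolayPt → ℤ) = 8} with hS8
    set S16 : Set ↥leechLattice := {y | y ∈ X ∧ y ≠ x0 ∧ dotInt (x0 : GolayPt → ℤ) (y : GolayPt → ℤ) = 16} with hS16
    have f8 : S8.Finite := hfinX.subset fun y hy => hy.1
    have f16 : S16.Finite := hfinX.subset fun y hy => hy.1
    have hd : Disjoint S8 S16 := by
      rw [Set.disjoint_left]
      rintro z hz hz'
      have e1 := hz.2
      have e2 := hz'.2.2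
      omega
    have hd' : x0 ∉ S8 ∪ S16 := by
      rintro (hz | hz)
      · have e1 := hz.2
        omega
      · exact hz.2.1 rfl
    have hU : insert x0 (S8 ∪ S16) = X := by
      apply Set.eq_of_subset_of_ncard_le _ _ hfinX
      · rintro z (rfl | hz | hz)
        · exact hx0
        · exact hz.1
        · exact hz.1
      · rw [Set.ncard_insert_of_notMem hd' (f8.union f16), Set.ncard_union_eq hd f8 f16, h3, h4, h1]
    have hy' : y ∈ insert x0 (S8 ∪ S16) := by rw [hU]; exact hy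
    rcases hy' with h6 | h6 | h6
    · exact absurd h6 hne
    · exact Or.inl h6.2
    · exact Or.inr h6.2.2
  letI := act (K u v) X hX
  obtain ⟨b, c, hr⟩ := exists_isRankThree (K u v) X hX (k := 112) (l := 162) (by rw [h1]) (by norm_num) (by norm_num)
    (by norm_num) ⟨x0, hx0⟩ (fun y => dotInt (x0 : GolayPt → ℤ) (y : GolayPt → ℤ) = 8)
    (by
      intro x hx x' hx'
      obtain ⟨g, hg1, hg2, hg3⟩ := h2 x hx x' hx'
      exact ⟨g, ⟨hg1, hg2⟩, hg3⟩)
    (by
      intro g hg hg0 y hy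
      have := dotInt_smul g x0 y
      rw [show g • x0 = x0 from hg0] at this
      rw [this]; exact hy)
    (by
      intro h
      have h7 : dotInt (x0 : GolayPt → ℤ) (x0 : GolayPt → ℤ) = 8 := h
      omega)
    h3
    (by
      rw [← h4]
      congr 1
      ext y
      constructor
      · rintro ⟨hy, hne, h8⟩
        refine ⟨hy, hne, ?_⟩
        rcases hdich y hy hne with h9 | h9
        · exact absurd h9 h8
        · exact h9
      · rintro ⟨hy, hne, h8⟩
        refine ⟨hy, hne, ?_⟩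
        intro h9
        have h9' : dotInt (x0 : GolayPt → ℤ) (y : GolayPt → ℤ) = 8 := h9
        omega)
    (by
      intro y hy y' hy' hne hne' h
      have h10 : dotInt (x0 : GolayPt → ℤ) (y : GolayPt → ℤ) = dotInt (x0 : GolayPt → ℤ) (y' : GolayPt → ℤ) := by
        have h' : dotInt (x0 : GolayPt → ℤ) (y : GolayPt → ℤ) = 8 ↔ dotInt (x0 : GolayPt → ℤ) (y' : GolayPt → ℤ) = 8 := h
        rcases hdich y hy hne with h11 | h11 <;> rcases hdich y' hy' hne' with h12 | h12 <;> omega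
      obtain ⟨g, hg1, hg2, hg3, hg4⟩ := h5 y hy y' hy' hne hne' h10
      exact ⟨g, ⟨hg1, hg2⟩, hg3, hg4⟩)
  haveI : Finite ↥X := hfinX.to_subtype
  haveI := hr.trans
  haveI : Nonempty ↥X := ⟨⟨x0, hx0⟩⟩
  have hcX : Nat.card ↥X = 275 := by rw [Nat.card_coe_set_eq, h1]
  have hfin : Finite ↥(K u v) := Nat.finite_of_card_ne_zero (by
    have : Nat.card ↥(K u v) = 898128000 := hc
    rw [this]; norm_num)
  haveI := Fintype.ofFinite ↥(K u v)
  obtain ⟨μ, hμ1, hμ⟩ := exists_22
  have hdeg := HS.degree_of_lchi hμ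
  have hne := RankThree.inner_ne (K u v).subtype μ hμ1 hμ ↥X (fun x => x.1) (fun g x => rfl) (by
    intro x
    by_contra hcon
    push Not at hcon
    have hsub : ∀ y : ↥X, y = x := by
      intro y
      obtain ⟨g, hg⟩ := exists_smul_eq ↥(K u v) x y
      rw [← hg]
      exact Subtype.ext (hcon g)
    have h6 : Nat.card ↥X = 1 := by
      rw [Nat.card_eq_one_iff_exists]
      exact ⟨x, hsub⟩
    omega)
  obtain ⟨χ, hχ⟩ := RankThree.irr_other (G := ↥(K u v)) ↥X (RankThree.card_orbitals hr) μ hμ1 hne (by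
    have : charDegree (μ : ↥(K u v) → ℂ) = 22 := by omega
    rw [this, hcX]
    norm_num)
  refine ⟨χ, ?_⟩
  rw [hχ, hcX]
  have : charDegree (μ : ↥(K u v) → ℂ) = 22 := by omega
  rw [this]

theorem hasDZ_seven : HasDZ 7 Spor.McL := by
  obtain ⟨hs, hc⟩ := facts
  have h7 : Fact (Nat.Prime 7) := ⟨by norm_num⟩
  have hfin : Finite ↥(K (-Spor.leechV) Spor.leechU) :=
    Nat.finite_of_card_ne_zero (by rw [hc]; norm_num)
  refine HasDZ.mulEquiv mclEquiv.symm ?_
  obtain ⟨χ, hχ⟩ := exists_252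
  refine Cfsg.Agent.H419.Row.dz_of_dvd (n := 1) χ ?_ ?_ h7.out
  · rw [hχ]
    norm_num
  · rw [hc]
    exact factorization_eq_one (by norm_num) (by norm_num)

theorem row_mcl {S : Type v} [Group S] (h : Spor.IsoMcL S) : Row.{u, v} S := by
  obtain ⟨hfin, -⟩ := TypeM.FactsMcL.facts h
  obtain ⟨x, hx, -⟩ := Cfsg.Agent.H419.Spor.McL.rowC h
  obtain ⟨e⟩ := h
  have h7 : Fact (Nat.Prime 7) := ⟨by norm_num⟩
  exact Row.of_dz (p := 7) (by norm_num) (HasDZ.mulEquiv e.symm hasDZ_seven) (y := x)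
    (hx ▸ by norm_num) (by rw [hx]; norm_num)

end Cfsg.Agent.H713.Spor.McL
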