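import Cfsg.Agent.H713.Spor.Tool
import Cfsg.Agent.MonsterU.Assembly

/-!
# The Monster: characters of defect zero, from the model (helper713)
-/

set_option autoImplicit false

namespace Cfsg.Agent.H713.Spor.MOf

open Cfsg Cfsg.Agent.MonsterX.Model Cfsg.Agent.MonsterX.MainPack Cfsg.Agent.H665.NoPQ
  Cfsg.Agent.MonsterX.MainSimple Cfsg.Agent.MonsterX.MainBasic Cfsg.Agent.MonsterU.Assembly

variable {W : Type} [AddCommGroup W] [Module ℚ W] {M : MData W} {K₀ : Type} [Group K₀]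

theorem card_cent_z (hG : MGroup M K₀) (hR : MRep M) (hL : MLat M) (hO : MOrbit M)
    (hT : MTrans M) : Nat.card (Subgroup.centralizer ({zG hG} : Set M.G)) =
      2 ^ 25 * 4157776806543360000 := by
  obtain ⟨π, hs, hπ⟩ := hG.quot
  have e1 : Nat.card (Subgroup.centralizer ({zG hG} : Set M.G)) = Nat.card M.C := by
    refine Nat.card_congr (Equiv.ofBijective
      (fun x => ⟨(x : M.G), (mem_cent_iff hG hR hL hO hT _).1 x.2⟩) ⟨?_, ?_⟩)
    · intro x y h
      have h1 := (Subtype.mk.injEq _ _ _ _).mp h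
      exact Subtype.ext (Subtype.ext h1)
    · rintro ⟨c, hc⟩
      exact ⟨⟨⟨c, C_le hc⟩, (mem_cent_iff hG hR hL hO hT _).2 hc⟩, rfl⟩
  have e2 : Nat.card π.ker = Nat.card M.Q := by
    refine Nat.card_congr (Equiv.ofBijective
      (fun x => ⟨((x : M.C) : W ≃ₗ[ℚ] W), (hπ x).1 x.2⟩) ⟨?_, ?_⟩)
    · intro x y h
      have h1 := (Subtype.mk.injEq _ _ _ _).mp h
      exact Subtype.ext (Subtype.ext h1)
    · rintro ⟨c, hc⟩
      exact ⟨⟨⟨c, hG.Q_le hc⟩, (hπ _).2 hc⟩, rfl⟩
  have e3 : Nat.card K₀ = π.ker.index := by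
    rw [Subgroup.index_ker, MonoidHom.range_eq_top.2 hs, Subgroup.card_top]
  rw [e1, ← π.ker.card_mul_index, e2, ← e3, hG.Q_card, hG.card]

theorem orderOf_t (hG : MGroup M K₀) (hR : MRep M) : orderOf (tG hG hR) = 2 := by
  apply orderOf_eq_prime
  · rw [pow_two]
    exact Subtype.ext hR.t₀_sq
  · intro h
    exact hR.t₀_ne (congrArg Subtype.val h)

/-- The orders of the centralizers of involutions. -/
theorem card_cent (A : All M K₀) (u : M.G) (hu : orderOf u = 2) :
    Nat.card (Subgroup.centralizer ({u} : Set M.G)) ∈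
      [2 ^ 25 * 4157776806543360000, 2 * 4154781481226426191177580544000000] := by
  have hu1 : u ≠ 1 := by
    rintro rfl
    rw [orderOf_one] at hu
    exact absurd hu (by norm_num)
  have huu : u * u = 1 := by rw [← pow_two, ← hu, pow_orderOf_eq_one]
  rcases A.classes u huu hu1 with ⟨g, hg⟩ | ⟨g, hg⟩
  · rw [Cfsg.Agent.Blocks.SylowIn.card_centralizer_of_isConj (isConj_iff.2 ⟨g, hg⟩),
      card_cent_z A.hG A.hR A.hL A.hO A.hT]
    simp
  · rw [Cfsg.Agent.Blocks.SylowIn.card_centralizer_of_isConj (isConj_iff.2 ⟨g, hg⟩),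
      card_cent_t A.hG A.hR A.hL A.hO A.hT]
    simp

theorem hasDZ (A : All M K₀) {p : ℕ} [Fact p.Prime]
    (h1 : ¬ p ∣ 2 ^ 25 * 4157776806543360000) (h2 : ¬ p ∣ 2 * 4154781481226426191177580544000000) :
    HasDZ p M.G := by
  have := G_finite A.hO
  refine hasDZ_of_cards _ (card_cent A) ?_ (orderOf_z A.hG) (orderOf_t A.hG A.hR) ?_
  · intro m hm
    simp only [List.mem_cons, List.not_mem_nil, or_false] at hm
    rcases hm with rfl | rfl
    · exact h1
    · exact h2
  · rw [card_cent_z A.hG A.hR A.hL A.hO A.hT, card_cent_t A.hG A.hR A.hL A.hO A.hT]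
    norm_num

end Cfsg.Agent.H713.Spor.MOf
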