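import Cfsg.Agent.H713.Spor.BOf
import Cfsg.Agent.H713.Spor.MOf
import Cfsg.Agent.CTwoTab.BInst
import Cfsg.Agent.CpAut.TwoInnerB
import Cfsg.Agent.H997.OutCard

/-!
# The Baby Monster: characters of defect zero, and the row (helper713)

* `dvd_cases` : an odd prime dividing the order of the centralizer of an involution of `B` divides
  `|C_B(t)|`, `t` a transposition, or `2 ^ 25 |Co₁|`
* `hasDZ_31`, `hasDZ_47`
* `row_b` : the row of the Baby Monster
-/

set_option autoImplicit false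
set_option maxRecDepth 100000

namespace Cfsg.Agent.H713.Spor.B

open Subgroup Cfsg Cfsg.Agent.BabyComp
open Cfsg.Agent.H665.NoPQ

universe u v

theorem dvd_cases {p : ℕ} (hp : p.Prime) (hp2 : p ≠ 2) {u : Spor.BabyMonster} (hu : orderOf u = 2)
    (hd : p ∣ Nat.card (centralizer ({u} : Set Spor.BabyMonster))) :
    p ∣ 306129918735099415756800 ∨ p ∣ 2 ^ 25 * 4157776806543360000 := by
  refine CTwoTab.BInst.elim ?_
  intro K iF iT hK hF i1 i2 i3 i4 q y h π f₁ f₂ f₃ f₄ M₁ hq h10 DK Fc hz hcz hcd hL hc5 big hq5 hcard Bs hr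
  obtain ⟨M₂, Bs2⟩ := BaseTwo.exists_base2 hq5
  have A := CTwoTab.BInst.all
  have h1 := BOf.dvd_or_dvd (hF := hF) (Cfsg.Agent.TwoESix.LeviG.rootFacts hK hF) (Cfsg.Agent.BabyU.KeyInst.extra hF)
    (Cfsg.Agent.TwoESix.RootsInst.roots K hF) hq h10 DK Fc (Subgroup.subtype_injective _) hcz hcd hc5 big Bs2
    hp hp2 hu hd
  rw [hcard] at h1
  rcases h1 with h1 | h1
  · exact Or.inl h1
  · right
    rw [hz, MOf.card_cent_z A.hG A.hR A.hL A.hO A.hT] at h1
    exact h1

theorem card_b : Nat.card Spor.BabyMonster = 4154781481226426191177580544000000 :=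
  (S1704.result : Cfsg.IsB Cfsg.Spor.BabyMonster).2

theorem hasDZ {p : ℕ} [hp : Fact p.Prime] (hp2 : p ≠ 2) (h1 : ¬ p ∣ 306129918735099415756800)
    (h2 : ¬ p ∣ 2 ^ 25 * 4157776806543360000) : HasDZ p Spor.BabyMonster := by
  have := CTwoTab.BInst.finite_B
  obtain ⟨K, _, _, _, t, X₀, σ, -, ht, hc⟩ := CTwoTab.BInst.exists_sec
  have ht2 : orderOf t = 2 := by
    obtain ⟨M₂, Bs2⟩ := BaseTwo.exists_base2 ht
    refine CTwoTab.BInst.elim ?_
    intro K iF iT hK hF i1 i2 i3 i4 q y h π f₁ f₂ f₃ f₄ M₁ hq h10 DK Fc hz hcz hcd hL hc5 big hq5 hcard Bs hr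
    have h5 : orderOf (q (y 5)) = 2 := by
      refine orderOf_eq_prime ?_ ?_
      · rw [pow_two, ← map_mul, h.sq 5 (by norm_num) (by norm_num), map_one]
      · intro e
        rw [e] at hcard
        have h6 : centralizer ({1} : Set Spor.BabyMonster) = ⊤ := by
          rw [eq_top_iff]
          intro x _
          rw [mem_centralizer_singleton_iff, mul_one, one_mul]
        rw [h6, card_top, card_b] at hcard
        norm_num at hcard
    obtain ⟨g, hg⟩ := isConj_iff.1 (ht.trans hq5.symm)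
    rw [← h5, ← hg]
    exact (MulEquiv.orderOf_eq (MulAut.conj g) t).symm
  obtain ⟨z, hz, hzc⟩ := exists_not_isConj_of_even ht2 (by rw [hc, card_b]; norm_num)
  refine hasDZ_of_two_classes (fun u hu hd => ?_) ht2 hz hzc
  rcases dvd_cases hp.out hp2 hu hd with h | h
  · exact h1 h
  · exact h2 h

instance fact_31 : Fact (Nat.Prime 31) := ⟨by norm_num⟩
instance fact_47 : Fact (Nat.Prime 47) := ⟨by norm_num⟩

theorem hasDZ_31 : HasDZ 31 Spor.BabyMonster := hasDZ (by norm_num) (by norm_num) (by norm_num)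
theorem hasDZ_47 : HasDZ 47 Spor.BabyMonster := hasDZ (by norm_num) (by norm_num) (by norm_num)

/-- **The row of the Baby Monster.** -/
theorem row_b {S : Type v} [Group S] (h : Spor.IsoB S) : Row.{u, v} S := by
  obtain ⟨e⟩ := h
  refine Row.mulEquiv (S := Spor.BabyMonster) ?_ e.symm
  have := CTwoTab.BInst.finite_B
  have hout : Nat.card (Cfsg.Out Cfsg.Spor.BabyMonster) = 1 :=
    Cfsg.Agent.H997.OutCard.card_eq_one Cfsg.Agent.CpAut.TwoInner.inner_b
  refine Row.of_arith_primes (o := 1) (card_mulAut_dvd hout.dvd) ?_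
  intro d hd
  rw [Nat.dvd_one] at hd
  subst hd
  refine ⟨31, by norm_num, by norm_num, factorization_eq_one ?_ ?_, hasDZ_31, by norm_num, ?_⟩
  · rw [card_b]; norm_num
  · rw [card_b]; norm_num
  · rw [card_b]; norm_num

end Cfsg.Agent.H713.Spor.B
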