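import Cfsg.Agent.H713.Spor.Tool
import Cfsg.Agent.H419.LeechFix
import Cfsg.Agent.S0157
import Cfsg.Agent.SporadicRecognition.RankThree

/-!
# Permutation characters of rank 3 (helper713)

* `irr_other` : the third constituent of a permutation character of rank 3
* `inner_ne` : a constituent of the permutation character on vectors of the Leech lattice
-/

set_option autoImplicit false

namespace Cfsg.Agent.H713.Spor.RankThree

open Cfsg Cfsg.Agent.H713 Cfsg.Agent.Characters.Core
open Cfsg.Agent.Blocks.Basic (irr_one_eq_charDegree charDegree_pos)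
open Cfsg.Agent.H419.LeechIrr Cfsg.Agent.H419.LeechFix
open Cfsg.Agent.S0157 (isCharacter_fixedBy avg_fixedBy card_fixedBy_prod card_orbits_of_pretransitive)
open scoped ComplexConjugate
open MulAction

variable {G : Type*} [Group G]

/-- The permutation character. -/
noncomputable def pc (G : Type*) [Group G] (X : Type*) [MulAction G X] : G → ℂ :=
  fun g => (Nat.card (fixedBy X g) : ℂ)

theorem inner_pc_one [Fintype G] (X : Type*) [MulAction G X] [Finite X] [IsPretransitive G X]
    [Nonempty X] : classInner (pc G X) 1 = 1 := by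
  rw [classInner_def]
  have h := avg_fixedBy (G := G) X
  rw [card_orbits_of_pretransitive] at h
  simp only [pc, Pi.one_apply, map_one, mul_one]
  rw [h]
  norm_num

theorem inner_pc_self [Fintype G] (X : Type*) [MulAction G X] [Finite X] :
    classInner (pc G X) (pc G X) = (Nat.card (Quotient (orbitRel G (X × X))) : ℂ) := by
  rw [classInner_def, ← avg_fixedBy (G := G) (X × X)]
  congr 1
  refine Finset.sum_congr rfl fun g _ => ?_
  rw [card_fixedBy_prod, pc, Complex.conj_natCast]
  push_cast
  rfl

theorem pc_one (X : Type*) [MulAction G X] [Finite X] : pc G X 1 = (Nat.card X : ℂ) := by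
  rw [pc, fixedBy_one_eq_univ, Nat.card_coe_set_eq, Set.ncard_univ]

/-- The third constituent. -/
theorem irr_other [Fintype G] (X : Type*) [MulAction G X] [Finite X] [IsPretransitive G X]
    [Nonempty X] (hr : Nat.card (Quotient (orbitRel G (X × X))) ≤ 3) (μ : IrrCharacter G)
    (hμ1 : (μ : G → ℂ) ≠ 1) (hne : classInner (pc G X) μ ≠ 0)
    (hdeg : charDegree (μ : G → ℂ) + 1 < Nat.card X) :
    ∃ χ : IrrCharacter G, charDegree (χ : G → ℂ) = Nat.card X - 1 - charDegree (μ : G → ℂ) := by
  obtain ⟨m, hm⟩ := classInner_isNat (isCharacter_fixedBy (G := G) X) (isIrr_isCharacter μ.2)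
  change classInner (pc G X) μ = m at hm
  have hm0 : m ≠ 0 := by
    rintro rfl
    exact hne (by rw [hm]; norm_num)
  have hm' : classInner (μ : G → ℂ) (pc G X) = m := by
    rw [← classInner_conj_symm, hm, Complex.conj_natCast]
  have h1 := inner_pc_one (G := G) X
  have h1' : classInner (1 : G → ℂ) (pc G X) = 1 := by
    rw [← classInner_conj_symm, h1, map_one]
  have h2 : classInner (1 : G → ℂ) (μ : G → ℂ) = 0 := classInner_irr_ne isIrr_one μ.2 (Ne.symm hμ1)
  have h3 : classInner (μ : G → ℂ) 1 = 0 := classInner_irr_ne μ.2 isIrr_one hμ1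
  set ψ : G → ℂ := pc G X - (1 + (μ : G → ℂ)) with hψ
  have hgen : IsGeneralizedCharacter G ψ := by
    rw [isGeneralizedCharacter_def]
    exact ⟨_, _, isCharacter_fixedBy X, isCharacter_add isCharacter_one (isIrr_isCharacter μ.2), rfl⟩
  have hval : ψ 1 = ((Nat.card X - 1 - charDegree (μ : G → ℂ) : ℕ) : ℂ) := by
    rw [hψ, Pi.sub_apply, Pi.add_apply, pc_one, irr_one_eq_charDegree μ.2, Nat.sub_sub,
      Nat.cast_sub (by omega)]
    push_cast
    simp
  have hnorm : classInner ψ ψ = ((Nat.card (Quotient (orbitRel G (X × X))) : ℤ) - 2 * m : ℤ) := by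
    rw [hψ, classInner_sub_left, classInner_sub_right, classInner_sub_right, classInner_add_left,
      classInner_add_left, classInner_add_right, classInner_add_right, classInner_add_right,
      inner_pc_self, h1, h1', hm, hm', h2, h3, classInner_irr_self isIrr_one, classInner_irr_self μ.2]
    push_cast
    ring
  have hpos : ψ ≠ 0 := by
    intro h
    rw [h, Pi.zero_apply] at hval
    have : 0 = Nat.card X - 1 - charDegree (μ : G → ℂ) := by exact_mod_cast hval
    omega
  have hnonneg : 0 < (Nat.card (Quotient (orbitRel G (X × X))) : ℤ) - 2 * m := by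
    have h4 := classInner_self_eq_ofReal ψ
    rw [hnorm] at h4
    have h5 : (((Nat.card (Quotient (orbitRel G (X × X))) : ℤ) - 2 * m : ℤ) : ℝ) =
        (Nat.card G : ℝ)⁻¹ * ∑ g : G, Complex.normSq (ψ g) := by exact_mod_cast h4
    have h6 : (0 : ℝ) ≤ (((Nat.card (Quotient (orbitRel G (X × X))) : ℤ) - 2 * m : ℤ) : ℝ) := by
      rw [h5]
      exact mul_nonneg (by positivity) (Finset.sum_nonneg fun _ _ => Complex.normSq_nonneg _)
    have h7 : (0 : ℤ) ≤ (Nat.card (Quotient (orbitRel G (X × X))) : ℤ) - 2 * m := by exact_mod_cast h6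
    refine lt_of_le_of_ne h7 fun h8 => hpos ?_
    apply classInner_self_eq_zero
    rw [hnorm, ← h8]
    norm_num
  have hone : (Nat.card (Quotient (orbitRel G (X × X))) : ℤ) - 2 * m = 1 := by omega
  rw [hone] at hnorm
  rcases isIrr_of_generalized hgen (by rw [hnorm]; norm_num) with h | h
  · refine ⟨⟨ψ, h⟩, ?_⟩
    have h4 : ((charDegree ψ : ℕ) : ℂ) = ((Nat.card X - 1 - charDegree (μ : G → ℂ) : ℕ) : ℂ) := by
      rw [← hval]
      exact (irr_one_eq_charDegree h).symm
    exact_mod_cast h4
  · exfalso
    obtain ⟨n, hn, hn'⟩ := isIrr_apply_one h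
    rw [Pi.neg_apply, hval] at hn'
    have h4 : ((n : ℤ) : ℂ) + (((Nat.card X - 1 - charDegree (μ : G → ℂ) : ℕ) : ℤ) : ℂ) = 0 := by
      push_cast
      rw [← hn']
      ring
    have h5 : (n : ℤ) + ((Nat.card X - 1 - charDegree (μ : G → ℂ) : ℕ) : ℤ) = 0 := by exact_mod_cast h4
    omega

/-- Double counting. -/
theorem sum_fixedBy [Fintype G] (X : Type*) [MulAction G X] [Fintype X] (φ : G → ℂ) :
    ∑ g : G, φ g * (Nat.card (fixedBy X g) : ℂ) =
      ∑ x : X, ∑ᶠ g : stabilizer G x, φ (g : G) := by
  classical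
  have h1 : ∀ g : G, (Nat.card (fixedBy X g) : ℂ) = ∑ x : X, if g • x = x then (1 : ℂ) else 0 := by
    intro g
    rw [Finset.sum_boole]
    congr 1
    rw [← Fintype.card_subtype, Nat.card_eq_fintype_card]
    exact Fintype.card_congr (Equiv.refl _)
  calc ∑ g : G, φ g * (Nat.card (fixedBy X g) : ℂ)
      = ∑ g : G, ∑ x : X, if g • x = x then φ g else 0 := by
        refine Finset.sum_congr rfl fun g _ => ?_
        rw [h1, Finset.mul_sum]
        exact Finset.sum_congr rfl fun x _ => by split_ifs <;> simp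
    _ = ∑ x : X, ∑ g : G, if g • x = x then φ g else 0 := Finset.sum_comm
    _ = _ := by
        refine Finset.sum_congr rfl fun x _ => ?_
        rw [← Finset.sum_filter, finsum_eq_sum_of_fintype, Finset.sum_subtype]
        intro g
        simp [mem_stabilizer_iff]

theorem inner_ne [Fintype G] (f : G →* Co0) (μ : IrrCharacter G) (hμ1 : (μ : G → ℂ) ≠ 1) {d : ℕ}
    (hd : ∀ g, lchi f g = d + (μ : G → ℂ) g) (X : Type*) [MulAction G X] [Finite X]
    [IsPretransitive G X] [Nonempty X] (v : X → leechLattice) (hv : ∀ g x, v (g • x) = f g • v x)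
    (hmove : ∀ x, ∃ g, f g • v x ≠ v x) : classInner (pc G X) μ ≠ 0 := by
  classical
  intro h0
  have := Fintype.ofFinite X
  have h0' : classInner (μ : G → ℂ) (pc G X) = 0 := by
    rw [← classInner_conj_symm, h0, map_zero]
  have h1 := inner_pc_one (G := G) X
  have h1' : classInner (1 : G → ℂ) (pc G X) = 1 := by
    rw [← classInner_conj_symm, h1, map_one]
  have h3 : classInner (μ : G → ℂ) 1 = 0 := classInner_irr_ne μ.2 isIrr_one hμ1
  have hl : lchi f = (d : ℂ) • (1 : G → ℂ) + (μ : G → ℂ) := by
    funext g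
    simpa using hd g
  -- `d` is the dimension of the space of invariants
  have hd1 : Module.finrank ℂ (inv f) = d := by
    have h4 := classInner_lchi f
    rw [hl, classInner_add_left, classInner_smul_left, classInner_irr_self isIrr_one, h3] at h4
    have h5 : (d : ℂ) = (Module.finrank ℂ (inv f) : ℂ) := by simpa using h4
    exact_mod_cast h5.symm
  have hstab : ∀ x : X, d + 1 ≤ Module.finrank ℂ (inv (f.comp (stabilizer G x).subtype)) := by
    intro x
    rw [← hd1]
    apply Submodule.finrank_lt_finrank_of_lt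
    refine lt_of_le_of_ne ?_ ?_
    · intro w hw
      rw [Representation.mem_invariants] at hw ⊢
      intro h
      exact hw h
    · intro heq
      obtain ⟨g, hg⟩ := hmove x
      apply hg
      revert g
      have h5 : toC (v x) ∈ inv f := by
        rw [heq, toC_mem_inv]
        intro g
        show f (g : G) • v x = v x
        rw [← hv]
        exact congrArg v g.2
      intro g _
      exact toC_mem_inv.1 h5 g
  -- the sums
  have hA := sum_fixedBy (G := G) X (fun _ => (1 : ℂ))
  have hB := sum_fixedBy (G := G) X (lchi f)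
  have hG0 : (Nat.card G : ℂ) ≠ 0 := card_ne_zero_complex
  have hA1 : ∑ g : G, (1 : ℂ) * (Nat.card (fixedBy X g) : ℂ) = Nat.card G := by
    have h4 := h1
    rw [classInner_def] at h4
    simp only [Pi.one_apply, map_one, mul_one, pc] at h4
    simp only [one_mul]
    rw [inv_mul_eq_iff_eq_mul₀ hG0, mul_one] at h4
    exact h4
  have hB1 : ∑ g : G, lchi f g * (Nat.card (fixedBy X g) : ℂ) = Nat.card G * d := by
    have h4 : classInner (lchi f) (pc G X) = d := by
      rw [hl, classInner_add_left, classInner_smul_left, h1', h0', mul_one, add_zero]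
    rw [classInner_def, inv_mul_eq_iff_eq_mul₀ hG0] at h4
    rw [← h4]
    refine Finset.sum_congr rfl fun g _ => ?_
    rw [pc, Complex.conj_natCast]
  have hA2 : ∀ x : X, ∑ᶠ g : stabilizer G x, (1 : ℂ) = (Nat.card (stabilizer G x) : ℂ) := by
    intro x
    rw [finsum_eq_sum_of_fintype]
    simp [Nat.card_eq_fintype_card]
  have hB2 : ∀ x : X, ∑ᶠ g : stabilizer G x, lchi f (g : G) = (Nat.card (stabilizer G x) : ℂ) *
      (Module.finrank ℂ (inv (f.comp (stabilizer G x).subtype)) : ℂ) := by
    intro x
    have h4 := classInner_lchi (f.comp (stabilizer G x).subtype)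
    rw [classInner_def, inv_mul_eq_iff_eq_mul₀ card_ne_zero_complex] at h4
    rw [← h4, finsum_eq_sum_of_fintype]
    refine Finset.sum_congr rfl fun g _ => ?_
    simp [lchi]
  rw [hA1, Finset.sum_congr rfl fun x _ => hA2 x] at hA
  rw [hB1, Finset.sum_congr rfl fun x _ => hB2 x] at hB
  have hA3 : Nat.card G = ∑ x : X, Nat.card (stabilizer G x) := by exact_mod_cast hA
  have hB3 : Nat.card G * d = ∑ x : X, Nat.card (stabilizer G x) *
      Module.finrank ℂ (inv (f.comp (stabilizer G x).subtype)) := by exact_mod_cast hB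
  have h6 : ∑ x : X, Nat.card (stabilizer G x) * (d + 1) ≤ ∑ x : X, Nat.card (stabilizer G x) *
      Module.finrank ℂ (inv (f.comp (stabilizer G x).subtype)) :=
    Finset.sum_le_sum fun x _ => Nat.mul_le_mul_left _ (hstab x)
  rw [← hB3, ← Finset.sum_mul, ← hA3, Nat.mul_le_mul_left_iff Nat.card_pos] at h6
  omega

/-- The number of orbitals. -/
theorem card_orbitals {X : Type*} [MulAction G X] [Finite X] {a b c : X} {k l : ℕ}
    (h : Cfsg.Agent.SporadicRecognition.RankThree.IsRankThree G a b c k l) :
    Nat.card (Quotient (orbitRel G (X × X))) ≤ 3 := by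
  have hf : Function.Surjective (fun i : Fin 3 => (Quotient.mk (orbitRel G (X × X))
      (![(a, a), (a, b), (a, c)] i))) := by
    intro q
    induction q using Quotient.inductionOn with | _ p =>
    obtain ⟨x, y⟩ := p
    have htr := h.trans
    rcases h.cases_all x y with rfl | ⟨g, rfl, rfl⟩ | ⟨g, rfl, rfl⟩
    · refine ⟨0, ?_⟩
      obtain ⟨g, rfl⟩ := exists_smul_eq G a y
      apply Quotient.sound
      refine ⟨g⁻¹, ?_⟩
      show (g⁻¹ • g • a, g⁻¹ • g • a) = (a, a)
      rw [inv_smul_smul]
    · refine ⟨1, ?_⟩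
      apply Quotient.sound
      refine ⟨g⁻¹, ?_⟩
      show (g⁻¹ • g • a, g⁻¹ • g • b) = (a, b)
      rw [inv_smul_smul, inv_smul_smul]
    · refine ⟨2, ?_⟩
      apply Quotient.sound
      refine ⟨g⁻¹, ?_⟩
      show (g⁻¹ • g • a, g⁻¹ • g • c) = (a, c)
      rw [inv_smul_smul, inv_smul_smul]
  have := Nat.card_le_card_of_surjective _ hf
  simpa using this

end Cfsg.Agent.H713.Spor.RankThree
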