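import Cfsg.Agent.H713.Spor.Tool
import Cfsg.Agent.CTwoTab.FiTF
import Cfsg.Agent.H997.OutCard

/-!
# `Fi₂₄'`: characters of defect zero, and the row (helper713)

* `hasDZ_17`, `hasDZ_23`, `hasDZ_29`
* `row_fi24` : the row of `Fi₂₄'`
-/

set_option autoImplicit false

namespace Cfsg.Agent.H713.Spor.FiTF

open Cfsg Cfsg.Spor Cfsg.Agent.R01 Cfsg.Agent.R08 Cfsg.Agent.R08.FiTwentyFour
open Cfsg.Agent.R08.TetTwo Cfsg.Agent.R08.TetThree Cfsg.Agent.R08.TetBasic
open Subgroup Cfsg.Agent.CTwoTab.FiTF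
open Cfsg.Agent.H665.NoPQ

universe u v

local notation "Pr" => Cfsg.Agent.R08.TetFi24A.At

theorem finite' : Finite Spor.Fi24' := by
  have := finite_Fi24
  infer_instance

theorem not_dvd_pair {a b : Fi24} (P : Pr a b) {t : Spor.Fi24'} (ht : (t : Fi24) = a * b) {p : ℕ}
    (hp : p.Prime) (hp2 : p ≠ 2) (hc : ¬ p ∣ 2 * 64561751654400) :
    ¬ p ∣ Nat.card (centralizer ({t} : Set Spor.Fi24')) := by
  intro hd
  have := finite'
  have : Fact p.Prime := ⟨hp⟩
  obtain ⟨⟨x, hx⟩, hxo⟩ := exists_prime_orderOf_dvd_card' p hd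
  rw [Subgroup.orderOf_mk] at hxo
  have hfix : ((x * x : Spor.Fi24') : Fi24) * a * ((x * x : Spor.Fi24') : Fi24)⁻¹ = a ∧
      ((x * x : Spor.Fi24') : Fi24) * b * ((x * x : Spor.Fi24') : Fi24)⁻¹ = b := by
    have e : ∀ u : Fi24, ((x * x : Spor.Fi24') : Fi24) * u * ((x * x : Spor.Fi24') : Fi24)⁻¹ =
        (x : Fi24) * ((x : Fi24) * u * (x : Fi24)⁻¹) * (x : Fi24)⁻¹ := by
      intro u
      push_cast
      group
    rw [e, e]
    rcases fix_or_swap P ht hx with ⟨h1, h2⟩ | ⟨h1, h2⟩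
    · rw [h1, h2, h1, h2]; exact ⟨rfl, rfl⟩
    · rw [h1, h2, h1]; exact ⟨rfl, rfl⟩
  have h2 : x * x ∈ N a b := by
    rw [mem_N, mem_Cab]
    exact ⟨mem_commutator_iff.1 (x * x : Spor.Fi24').2, mul_inv_eq_iff_eq_mul.1 hfix.1,
      mul_inv_eq_iff_eq_mul.1 hfix.2⟩
  have hxN : x ∈ N a b := by
    obtain ⟨k, hk⟩ := hp.odd_of_ne_two hp2
    have h3 : (x * x) ^ (k + 1) = x := by
      rw [← pow_two, ← pow_mul, show 2 * (k + 1) = p + 1 by omega, pow_succ, ← hxo, pow_orderOf_eq_one,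
        one_mul]
    rw [← h3]
    exact (N a b).pow_mem h2 _
  apply hc
  rw [← OddHalf.D4.Spor.FiTF.card_Cab P, ← Nat.card_congr (eN a b).toEquiv, ← hxo,
    ← Subgroup.orderOf_mk x hxN]
  exact orderOf_dvd_natCard _

theorem not_dvd_z0 {p : ℕ} (hc : ¬ p ∣ 321052999680) :
    ¬ p ∣ Nat.card (centralizer ({z0} : Set Spor.Fi24')) := by
  intro hd
  apply hc
  refine hd.trans ?_
  rw [← Cfsg.Agent.KFacts.FiTF.Order.card]
  let f : ↥(centralizer ({z0} : Set Spor.Fi24')) →* ↥(centralizer ({KFacts.FiTF.Defs.z} : Set Spor.Fi24)) :=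
    ((commutator Fi24).subtype.comp (centralizer ({z0} : Set Spor.Fi24')).subtype).codRestrict _ (by
      intro x
      rw [mem_centralizer_singleton_iff]
      exact congrArg Subtype.val (mem_centralizer_singleton_iff.1 x.2))
  refine Subgroup.card_dvd_of_injective f ?_
  intro x y h
  have h1 := (Subtype.mk.injEq _ _ _ _).mp h
  exact Subtype.ext (Subtype.ext h1)

theorem dvd_pair {a b : Fi24} (P : Pr a b) {t : Spor.Fi24'} (ht : (t : Fi24) = a * b) :
    2 * 64561751654400 ∣ Nat.card (centralizer ({t} : Set Spor.Fi24')) := by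
  rw [← OddHalf.D4.Spor.FiTF.card_Cab P, ← Nat.card_congr (eN a b).toEquiv]
  exact Subgroup.card_dvd_of_le (N_le ht)

/-- A prime `p ≠ 2, 3, 5, 7, 11, 13` does not divide the orders of the centralizers of involutions. -/
theorem not_dvd {p : ℕ} (hp : p.Prime) (hp2 : p ≠ 2) (hc : ¬ p ∣ 2 * 64561751654400)
    (hc' : ¬ p ∣ 321052999680) (u : Spor.Fi24') (hu : orderOf u = 2) :
    ¬ p ∣ Nat.card (centralizer ({u} : Set Spor.Fi24')) := by
  rcases classes u hu with ⟨a, b, P, h⟩ | ⟨g, rfl⟩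
  · exact not_dvd_pair P h hp hp2 hc
  · rw [Cfsg.Agent.Blocks.SylowIn.card_centralizer_of_isConj (isConj_iff.2 ⟨g, rfl⟩ : IsConj z0 _)]
    exact not_dvd_z0 hc'

theorem exists_pair : ∃ (t : Spor.Fi24') (a b : Fi24) (_ : Pr a b), orderOf t = 2 ∧ (t : Fi24) = a * b := by
  have h := KFacts.FiTF.Tet.isTet (t := 0) (by norm_num)
  generalize KFacts.FiTF.Defs.D 0 0 = a at h
  generalize KFacts.FiTF.Defs.D 0 1 = b at h
  generalize KFacts.FiTF.Defs.D 0 2 = c at h
  generalize KFacts.FiTF.Defs.D 0 3 = d at h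
  obtain ⟨Q⟩ := TetFi24A.exists_at h.ha h.hb h.nab h.ab
  refine ⟨⟨a * b, FiTwentyFour.even h.ha h.hb⟩, a, b, Q, ?_, rfl⟩
  refine orderOf_eq_prime ?_ ?_
  · apply Subtype.ext
    show (a * b) ^ 2 = 1
    have aa : a * a = 1 := FiTwentyFour.sq h.ha
    have bb : b * b = 1 := FiTwentyFour.sq h.hb
    have ba : b * a = a * b := h.ab.eq.symm
    rw [pow_two]
    calc a * b * (a * b) = a * (b * a) * b := by group
      _ = (a * a) * (b * b) := by rw [ba]; group
      _ = 1 := by rw [aa, bb, one_mul]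
  · intro h1
    have h2 : a * b = 1 := congrArg Subtype.val h1
    have aa : a * a = 1 := FiTwentyFour.sq h.ha
    exact h.nab ((eq_inv_of_mul_eq_one_right h2).trans (eq_inv_of_mul_eq_one_right aa).symm).symm

theorem orderOf_z0 : orderOf z0 = 2 := by
  refine orderOf_eq_prime ?_ ?_
  · apply Subtype.ext
    have h := KFacts.FiTF.Tet.isTet (t := 0) (by norm_num)
    show KFacts.FiTF.Defs.z ^ 2 = 1
    have h1 := CTwoTab.FiTF.R0_p
    rw [pow_two]
    exact KFacts.FiTF.frame.zz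
  · intro h
    exact KFacts.FiTF.frame.z1 (congrArg Subtype.val h)

theorem hasDZ {p : ℕ} [hp : Fact p.Prime] (hp2 : p ≠ 2) (hc : ¬ p ∣ 2 * 64561751654400)
    (hc' : ¬ p ∣ 321052999680) : HasDZ p Spor.Fi24' := by
  have := finite'
  obtain ⟨t, a, b, P, ht, htab⟩ := exists_pair
  refine hasDZ_of_two_classes (not_dvd hp.out hp2 hc hc') ht orderOf_z0 ?_
  intro h
  have h1 : 11 ∣ Nat.card (centralizer ({t} : Set Spor.Fi24')) :=
    (show 11 ∣ 2 * 64561751654400 by norm_num).trans (dvd_pair P htab)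
  rw [← Cfsg.Agent.Blocks.SylowIn.card_centralizer_of_isConj h] at h1
  exact not_dvd_z0 (by norm_num) h1

instance fact_17 : Fact (Nat.Prime 17) := ⟨by norm_num⟩
instance fact_23 : Fact (Nat.Prime 23) := ⟨by norm_num⟩
instance fact_29 : Fact (Nat.Prime 29) := ⟨by norm_num⟩

theorem hasDZ_17 : HasDZ 17 Spor.Fi24' := hasDZ (by norm_num) (by norm_num) (by norm_num)
theorem hasDZ_23 : HasDZ 23 Spor.Fi24' := hasDZ (by norm_num) (by norm_num) (by norm_num)
theorem hasDZ_29 : HasDZ 29 Spor.Fi24' := hasDZ (by norm_num) (by norm_num) (by norm_num)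

/-- **The row of `Fi₂₄'`.** -/
theorem row_fi24 {S : Type v} [Group S] (h : Spor.IsoFi24' S) : Row.{u, v} S := by
  obtain ⟨e⟩ := h
  refine Row.mulEquiv (S := Spor.Fi24') ?_ e.symm
  have := finite'
  have hcard : Nat.card Spor.Fi24' = 1255205709190661721292800 := FiTwentyFour.card_commutator
  refine Row.of_arith_primes (o := 2) (card_mulAut_dvd KFacts.FiTF.out) ?_
  intro d hd
  rcases (Nat.dvd_prime Nat.prime_two).1 hd with rfl | rfl
  · refine ⟨23, by norm_num, by norm_num, factorization_eq_one ?_ ?_, hasDZ_23, by norm_num, ?_⟩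
    · rw [hcard]; norm_num
    · rw [hcard]; norm_num
    · rw [hcard]; norm_num
  · refine ⟨17, by norm_num, by norm_num, factorization_eq_one ?_ ?_, hasDZ_17, by norm_num, ?_⟩
    · rw [hcard]; norm_num
    · rw [hcard]; norm_num
    · rw [hcard]; norm_num

end Cfsg.Agent.H713.Spor.FiTF
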