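import Cfsg.Agent.H713.Spor.Tool
import Cfsg.Agent.KFacts.ON.OneClass
import Cfsg.Agent.S2078

/-!
# `O'N`: a character of 19-defect zero, and the row (helper713)
-/

set_option autoImplicit false

namespace Cfsg.Agent.H713.Spor.ON

open Cfsg Cfsg.Agent.H713 Cfsg.Agent.H665.NoPQ

universe u v

theorem arith (e a b : ℕ) (he : e ∣ 19 - 1) (he2 : Even e) (hb : b ∣ 161280) (hb2 : Odd b) (ha : Odd a)
    (hd : 19 * (e * (a * b)) ∣ 460815505920) (h1 : (e * (a * b)) % 19 = 460815505920 / 19 % 19)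
    (h2 : (a * 161280) % 19 = 460815505920 / 19 % 19) : False := by
  norm_num at h1 h2 he
  have hb' : b ∣ 315 := by
    have h3 : Nat.Coprime b (2 ^ 9) := Nat.Coprime.pow_right 9 (Nat.coprime_two_right.2 hb2)
    exact h3.dvd_of_dvd_mul_left (by norm_num; exact hb)
  have hbm : b ∈ ({1, 3, 5, 7, 9, 15, 21, 35, 45, 63, 105, 315} : Finset ℕ) := by
    have : b ∈ Nat.divisors 315 := Nat.mem_divisors.2 ⟨hb', by norm_num⟩
    have h4 : Nat.divisors 315 = {1, 3, 5, 7, 9, 15, 21, 35, 45, 63, 105, 315} := by decide +kernel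
    rwa [h4] at this
  have hem : e ∈ ({2, 6, 18} : Finset ℕ) := by
    have : e ∈ (Nat.divisors 18).filter (fun e => Even e) :=
      Finset.mem_filter.2 ⟨Nat.mem_divisors.2 ⟨he, by norm_num⟩, he2⟩
    have h4 : (Nat.divisors 18).filter (fun e => Even e) = {2, 6, 18} := by decide +kernel
    rwa [h4] at this
  have ha' : a % 19 = 15 := by omega
  have key : ∀ e ∈ ({2, 6, 18} : Finset ℕ), ∀ b ∈ ({1, 3, 5, 7, 9, 15, 21, 35, 45, 63, 105, 315} : Finset ℕ),
      (e * (15 * b)) % 19 = 6 → e = 18 ∧ b = 315 := by decide +kernel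
  have h3 : (e * (15 * b)) % 19 = 6 := by
    rw [← h1, Nat.mul_mod, Nat.mul_mod 15, Nat.mul_mod e, Nat.mul_mod a, ha']
  obtain ⟨rfl, rfl⟩ := key e hem b hbm h3
  have h5 : a ∣ 4277504 := by
    have h6 : 107730 * a ∣ 107730 * 4277504 := by
      have : 19 * (18 * (a * 315)) = 107730 * a := by ring
      rw [this] at hd
      exact hd
    exact Nat.dvd_of_mul_dvd_mul_left (by norm_num) h6
  have h6 : a ∣ 16709 := by
    have h3 : Nat.Coprime a (2 ^ 8) := Nat.Coprime.pow_right 8 (Nat.coprime_two_right.2 ha)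
    exact h3.dvd_of_dvd_mul_left (by norm_num; exact h5)
  have h7 : a ∈ Nat.divisors 16709 := Nat.mem_divisors.2 ⟨h6, by norm_num⟩
  have h8 : ∀ a ∈ Nat.divisors 16709, a % 19 ≠ 15 := by decide +kernel
  exact h8 a h7 ha'

theorem hasDZ_19 : HasDZ 19 Spor.ON := by
  have : Fact (Nat.Prime 19) := ⟨by norm_num⟩
  have hcard : Nat.card Spor.ON = 460815505920 := Cfsg.Agent.KFacts.ON.OneClass.card_ON
  have hfin : Finite Spor.ON := Nat.finite_of_card_ne_zero (by rw [hcard]; norm_num)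
  refine hasDZ_of_card (by norm_num) (by rw [hcard]; exact factorization_eq_one (by norm_num) (by norm_num))
    (by rw [hcard]; norm_num) (m := 161280) ?_ (by norm_num) ?_
  · intro u hu
    obtain ⟨h1, h2⟩ := orderOf_two hu
    exact (Cfsg.Agent.Blocks.SylowIn.card_centralizer_of_isConj
      (Cfsg.Agent.KFacts.ON.OneClass.one_class h1 h2)).symm.trans
      Cfsg.Agent.KFacts.ON.Cent.card_cent
  · intro e a b x t hx ht hb he he2 hbm hbo hao hd h1 h2
    rw [hcard] at hd h1 h2
    exact arith e a b he he2 hbm hbo hao hd h1 h2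

theorem row_on' : Row.{u, 0} Spor.ON := by
  have : Fact (Nat.Prime 19) := ⟨by norm_num⟩
  have hcard : Nat.card Spor.ON = 460815505920 := Cfsg.Agent.KFacts.ON.OneClass.card_ON
  have hfin : Finite Spor.ON := Nat.finite_of_card_ne_zero (by rw [hcard]; norm_num)
  refine Row.of_arith_primes (o := 2) (card_mulAut_dvd (by rw [Cfsg.Agent.S2078.result])) fun d hd => ?_
  have hd2 : d = 1 ∨ d = 2 := (Nat.dvd_prime Nat.prime_two).1 hd
  refine ⟨19, by norm_num, by norm_num,
    (by rw [hcard]; exact factorization_eq_one (by norm_num) (by norm_num)), hasDZ_19, ?_, ?_⟩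
  · rcases hd2 with rfl | rfl <;> norm_num
  · rw [hcard]
    rcases hd2 with rfl | rfl <;> norm_num

theorem row_on {S : Type v} [Group S] (h : Spor.IsoON S) : Row.{u, v} S := by
  obtain ⟨e⟩ := h
  exact Row.mulEquiv row_on' e.symm

end Cfsg.Agent.H713.Spor.ON
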