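import Cfsg.Agent.H419.Spor.JModel
import Cfsg.Agent.H710.VanCount

/-!
# Rows from a centralizer `2^{1+4}.A5` (helper713)

In the centralizer `C` of an involution `z`, modelled by signed permutations of five letters, the
elements `x` with `x ^ 4 = z` (or `x ^ 6 = z`, `x ^ 4 ≠ 1`) form one class up to multiplication by
`z` and generate their own centralizers.
-/

set_option autoImplicit false
set_option linter.unusedSectionVars false

namespace Cfsg.Agent.H713.Spor.JJ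

open Cfsg Cfsg.Agent.H713 Subgroup Cfsg.Agent.H710.VanCount
open Cfsg.Agent.J2Type.Model

universe u v

abbrev P5 := Equiv.Perm (Fin 5)

/-- the element of `SP` whose preimages have order 8 -/
def g8 : SP := ⟨Equiv.swap 0 1 * Equiv.swap 2 3, ![1, 0, 0, 0, 1]⟩
/-- the element of `SP` whose preimages have order 12 -/
def g12 : SP := ⟨Equiv.swap 0 1 * Equiv.swap 1 2, ![0, 0, 0, 1, 1]⟩
def w8 : SP := ⟨1, ![0, 0, 1, 1, 0]⟩
def w12 : SP := ⟨1, ![1, 1, 1, 1, 0]⟩

theorem conj_two : ∀ σ : P5, Equiv.Perm.sign σ = 1 → σ ^ 4 = 1 → σ = 1 ∨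
    ∃ τ : P5, Equiv.Perm.sign τ = 1 ∧ τ * σ * τ⁻¹ = Equiv.swap 0 1 * Equiv.swap 2 3 := by
  decide +kernel

theorem conj_three : ∀ σ : P5, Equiv.Perm.sign σ = 1 → σ ^ 6 = 1 → σ ^ 2 = 1 ∨
    ∃ τ : P5, Equiv.Perm.sign τ = 1 ∧ τ * σ * τ⁻¹ = Equiv.swap 0 1 * Equiv.swap 1 2 := by
  decide +kernel

theorem cent8 : ∀ (σ : P5) (s : Fin 5 → ZMod 2), Equiv.Perm.sign σ = 1 → ∑ i, s i = 0 →
    (⟨σ, s⟩ : SP) * g8 = g8 * ⟨σ, s⟩ →
    ∃ k : Fin 4, (⟨σ, s⟩ : SP) = g8 ^ (k : ℕ) ∨ (⟨σ, s⟩ : SP) = w8 * g8 ^ (k : ℕ) := by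
  decide +kernel

theorem cent12 : ∀ (σ : P5) (s : Fin 5 → ZMod 2), Equiv.Perm.sign σ = 1 → ∑ i, s i = 0 →
    (⟨σ, s⟩ : SP) * g12 = g12 * ⟨σ, s⟩ →
    ∃ k : Fin 6, (⟨σ, s⟩ : SP) = g12 ^ (k : ℕ) ∨ (⟨σ, s⟩ : SP) = w12 * g12 ^ (k : ℕ) := by
  decide +kernel

/-- the image of `v k` -/
def wv (k : Fin 5) : SP := ⟨1, fun j => if j = k then 0 else 1⟩

theorem norm8 : ∀ s : Fin 5 → ZMod 2, ∑ i, s i = 0 →
    (⟨Equiv.swap 0 1 * Equiv.swap 2 3, s⟩ : SP) ^ 2 = 1 ∨
    (∃ k, (⟨Equiv.swap 0 1 * Equiv.swap 2 3, s⟩ : SP) ^ 2 = wv k) ∨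
    ∃ t : Fin 5 → ZMod 2, ∑ i, t i = 0 ∧
      ((⟨1, t⟩ : SP) * ⟨Equiv.swap 0 1 * Equiv.swap 2 3, s⟩ = g8 * ⟨1, t⟩ ∨
       (⟨Equiv.swap 0 2 * Equiv.swap 1 3, t⟩ : SP) * ⟨Equiv.swap 0 1 * Equiv.swap 2 3, s⟩ =
        g8 * ⟨Equiv.swap 0 2 * Equiv.swap 1 3, t⟩) := by
  decide +kernel

theorem norm12 : ∀ s : Fin 5 → ZMod 2, ∑ i, s i = 0 →
    (⟨Equiv.swap 0 1 * Equiv.swap 1 2, s⟩ : SP) ^ 3 = 1 ∨
    (∃ k, (⟨Equiv.swap 0 1 * Equiv.swap 1 2, s⟩ : SP) ^ 3 = wv k) ∨
    ∃ t : Fin 5 → ZMod 2, ∑ i, t i = 0 ∧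
      (⟨1, t⟩ : SP) * ⟨Equiv.swap 0 1 * Equiv.swap 1 2, s⟩ = g12 * ⟨1, t⟩ := by
  decide +kernel

theorem not_conj_c5 : ∀ σ : P5, Equiv.Perm.sign σ = 1 → σ * finRotate 5 ≠ (finRotate 5) ^ 3 * σ := by
  decide +kernel

section model

variable {C : Type*} [Group C] {Q : Subgroup C} {z : C} {v : Fin 5 → C} {ρ : C →* SP}
variable (M : IsModel Q z v ρ)
include M

theorem rho_range (c : C) : Equiv.Perm.sign (ρ c).σ = 1 ∧ ∑ i, (ρ c).s i = 0 :=
  (M.range _).1 ⟨c, rfl⟩

theorem eq_or {a b : C} (h : ρ a = ρ b) : a = b ∨ a = z * b := by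
  have h1 : ρ (a * b⁻¹) = 1 := by rw [map_mul, map_inv, h, mul_inv_cancel]
  rcases (M.ker _).1 h1 with h2 | h2
  · exact Or.inl (mul_inv_eq_one.1 h2)
  · exact Or.inr (mul_inv_eq_iff_eq_mul.1 h2)

theorem z_pow_two : z ^ 2 = 1 := by rw [pow_two, M.z_sq]

/-- A power of `c` lying in `⟨z⟩` or a conjugate of `v k` modulo `z` squares to one. -/
theorem pow_bad {c : C} {n : ℕ} (h : ρ c ^ n = 1 ∨ ∃ k, ρ c ^ n = wv k) : c ^ (2 * n) = 1 := by
  rw [mul_comm, pow_mul]
  rcases h with h | ⟨k, h⟩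
  · rcases eq_or M (a := c ^ n) (b := 1) (by rw [map_pow, h, map_one]) with h | h
    · rw [h, one_pow]
    · rw [h, mul_one, z_pow_two M]
  · have h1 : ρ (v k) = wv k := Cfsg.Agent.H419.Spor.JModel.rho_v M k
    rcases eq_or M (a := c ^ n) (b := v k) (by rw [map_pow, h, h1]) with h | h
    · rw [h, pow_two, M.v_sq]
    · rw [h, pow_two]
      calc z * v k * (z * v k) = z * (v k * z) * v k := by group
        _ = z * (z * v k) * v k := by rw [M.z_comm]
        _ = (z * z) * (v k * v k) := by group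
        _ = 1 := by rw [M.z_sq, M.v_sq, one_mul]

theorem σ_pow (c : C) (n : ℕ) : (ρ (c ^ n)).σ = (ρ c).σ ^ n := by
  induction n with
  | zero => rw [pow_zero, pow_zero, map_one, one_σ]
  | succ n ih => rw [pow_succ, pow_succ, map_mul, mul_σ, ih]

/-- normal form of the elements of order eight -/
theorem exists_conj8 {x : C} (hx : x ^ 4 = z) : ∃ h : C, ρ (h * x * h⁻¹) = g8 := by
  have hr := rho_range M x
  rcases conj_two (ρ x).σ hr.1 (by
      rw [← σ_pow M, hx, (M.ker z).2 (Or.inr rfl), one_σ]) with h | ⟨τ, hτ, h⟩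
  · exfalso
    have h1 : ρ x ^ 2 = 1 := by
      apply SP.ext
      · rw [pow_two, mul_σ, h, one_mul, one_σ]
      · funext i
        rw [pow_two, mul_s, h, Equiv.Perm.one_apply, CharTwo.add_self_eq_zero, one_s]
    have h2 := pow_bad M (c := x) (n := 2) (Or.inl h1)
    exact M.z_ne (hx.symm.trans h2)
  · obtain ⟨a, ha⟩ := (M.range ⟨τ, fun _ => 0⟩).2 ⟨hτ, by simp⟩
    set y := a * x * a⁻¹ with hy
    have hyσ : (ρ y).σ = Equiv.swap 0 1 * Equiv.swap 2 3 := by
      rw [hy, map_mul, map_mul, map_inv, mul_σ, mul_σ, inv_σ, ha]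
      exact h
    have hy4 : y ^ 4 = z := by
      rw [hy, conj_pow, hx, M.z_comm, mul_inv_cancel_right]
    have hye : ρ y = ⟨Equiv.swap 0 1 * Equiv.swap 2 3, (ρ y).s⟩ := SP.ext hyσ rfl
    rcases norm8 (ρ y).s (rho_range M y).2 with h1 | h1 | ⟨t, ht, h1⟩
    · exact absurd (hy4.symm.trans (pow_bad M (n := 2) (Or.inl (by rw [hye]; exact h1)))) M.z_ne
    · exact absurd (hy4.symm.trans (pow_bad M (n := 2) (Or.inr (by rw [hye]; exact h1)))) M.z_ne
    · rcases h1 with h1 | h1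
      · obtain ⟨b, hb⟩ := (M.range ⟨1, t⟩).2 ⟨by simp, ht⟩
        refine ⟨b * a, ?_⟩
        have h2 : b * a * x * (b * a)⁻¹ = b * y * b⁻¹ := by rw [hy]; group
        rw [h2, map_mul, map_mul, map_inv, mul_inv_eq_iff_eq_mul, hb, hye]
        exact h1
      · obtain ⟨b, hb⟩ := (M.range ⟨Equiv.swap 0 2 * Equiv.swap 1 3, t⟩).2
            ⟨(by decide +kernel : Equiv.Perm.sign (Equiv.swap 0 2 * Equiv.swap 1 3 : P5) = 1), ht⟩
        refine ⟨b * a, ?_⟩
        have h2 : b * a * x * (b * a)⁻¹ = b * y * b⁻¹ := by rw [hy]; group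
        rw [h2, map_mul, map_mul, map_inv, mul_inv_eq_iff_eq_mul, hb, hye]
        exact h1

/-- normal form of the elements of order twelve -/
theorem exists_conj12 {x : C} (hx : x ^ 6 = z) (hx' : x ^ 4 ≠ 1) :
    ∃ h : C, ρ (h * x * h⁻¹) = g12 := by
  have hr := rho_range M x
  rcases conj_three (ρ x).σ hr.1 (by
      rw [← σ_pow M, hx, (M.ker z).2 (Or.inr rfl), one_σ]) with h | ⟨τ, hτ, h⟩
  · exfalso
    have h1 : ρ x ^ 4 = 1 := by
      have h0 : ρ x ^ 2 = ⟨1, (ρ x ^ 2).s⟩ := SP.ext (by rw [← map_pow, σ_pow M, h]) rfl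
      rw [show (4 : ℕ) = 2 * 2 from rfl, pow_mul, h0]
      apply SP.ext
      · rw [pow_two, mul_σ, one_mul, one_σ]
      · funext i
        rw [pow_two, mul_s, Equiv.Perm.one_apply, CharTwo.add_self_eq_zero, one_s]
    rcases eq_or M (a := x ^ 4) (b := 1) (by rw [map_pow, h1, map_one]) with h2 | h2
    · exact hx' h2
    · rw [mul_one] at h2
      have h3 : x ^ 12 = 1 := by
        rw [show (12 : ℕ) = 6 * 2 from rfl, pow_mul, hx, z_pow_two M]
      have h4 : x ^ 12 = z := by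
        rw [show (12 : ℕ) = 4 * 3 from rfl, pow_mul, h2, pow_succ, z_pow_two M, one_mul]
      exact M.z_ne (h4.symm.trans h3)
  · obtain ⟨a, ha⟩ := (M.range ⟨τ, fun _ => 0⟩).2 ⟨hτ, by simp⟩
    set y := a * x * a⁻¹ with hy
    have hyσ : (ρ y).σ = Equiv.swap 0 1 * Equiv.swap 1 2 := by
      rw [hy, map_mul, map_mul, map_inv, mul_σ, mul_σ, inv_σ, ha]
      exact h
    have hy6 : y ^ 6 = z := by
      rw [hy, conj_pow, hx, M.z_comm, mul_inv_cancel_right]
    have hye : ρ y = ⟨Equiv.swap 0 1 * Equiv.swap 1 2, (ρ y).s⟩ := SP.ext hyσ rfl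
    rcases norm12 (ρ y).s (rho_range M y).2 with h1 | h1 | ⟨t, ht, h1⟩
    · exact absurd (hy6.symm.trans (pow_bad M (n := 3) (Or.inl (by rw [hye]; exact h1)))) M.z_ne
    · exact absurd (hy6.symm.trans (pow_bad M (n := 3) (Or.inr (by rw [hye]; exact h1)))) M.z_ne
    · obtain ⟨b, hb⟩ := (M.range ⟨1, t⟩).2 ⟨by simp, ht⟩
      refine ⟨b * a, ?_⟩
      have h2 : b * a * x * (b * a)⁻¹ = b * y * b⁻¹ := by rw [hy]; group
      rw [h2, map_mul, map_mul, map_inv, mul_inv_eq_iff_eq_mul, hb, hye]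
      exact h1

/-- `z v i = v i z` -/
theorem zc (c : C) : z * c = c * z := (M.z_comm c).symm

/-- An element with image `g8` generates its centralizer. -/
theorem cent_eight {x : C} (hx4 : x ^ 4 = z) (hx : ρ x = g8) {g : C} (hg : g * x = x * g) :
    g ∈ zpowers x := by
  have hr := rho_range M g
  have h1 : ρ g * g8 = g8 * ρ g := by rw [← hx, ← map_mul, ← map_mul, hg]
  obtain ⟨k, h2 | h2⟩ := cent8 (ρ g).σ (ρ g).s hr.1 hr.2 h1
  · have h3 : ρ g = ρ (x ^ (k : ℕ)) := by rw [map_pow, hx]; exact h2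
    rcases eq_or M h3 with h4 | h4
    · rw [h4]; exact npow_mem_zpowers x k
    · rw [h4, ← hx4, ← pow_add]; exact npow_mem_zpowers x _
  · exfalso
    have hw : ρ (v 2 * v 3) = w8 := by
      rw [map_mul, Cfsg.Agent.H419.Spor.JModel.rho_v M, Cfsg.Agent.H419.Spor.JModel.rho_v M]
      decide +kernel
    have h3 : ρ g = ρ (v 2 * v 3 * x ^ (k : ℕ)) := by rw [map_mul, map_pow, hx, hw]; exact h2
    -- `v 2 * v 3` commutes with `x`
    have h4 : Commute (v 2 * v 3) x := by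
      have hxk : Commute (x ^ (k : ℕ)) x := (Commute.refl x).pow_left _
      have hzx : Commute z x := zc M x
      rcases eq_or M h3 with h4 | h4
      · have h5 : v 2 * v 3 = g * (x ^ (k : ℕ))⁻¹ := by rw [h4]; group
        rw [h5]
        exact Commute.mul_left hg hxk.inv_left
      · have h5 : v 2 * v 3 = z⁻¹ * g * (x ^ (k : ℕ))⁻¹ := by rw [h4]; group
        rw [h5]
        exact Commute.mul_left (Commute.mul_left hzx.inv_left hg) hxk.inv_left
    -- but it is inverted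
    have h5 : x * (v 2 * v 3) * x⁻¹ = v 3 * v 2 := by
      have h6 := M.conj x 2
      have h7 := M.conj x 3
      rw [hx] at h6 h7
      have e1 : (g8.s 2) = 0 := by decide +kernel
      have e2 : (g8.s 3) = 0 := by decide +kernel
      have e3 : (g8.σ 2) = 3 := by decide +kernel
      have e4 : (g8.σ 3) = 2 := by decide +kernel
      rw [e1, e3, zp_zero, one_mul] at h6
      rw [e2, e4, zp_zero, one_mul] at h7
      calc x * (v 2 * v 3) * x⁻¹ = (x * v 2 * x⁻¹) * (x * v 3 * x⁻¹) := by group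
        _ = v 3 * v 2 := by rw [h6, h7]
    have h6 : x * (v 2 * v 3) * x⁻¹ = v 2 * v 3 := by
      rw [← h4.eq, mul_inv_cancel_right]
    have h7 := M.v_anti 2 3 (by decide)
    rw [← h5, h6] at h7
    exact M.z_ne (mul_eq_right.1 h7.symm)

/-- An element with image `g12` generates its centralizer. -/
theorem cent_twelve {x : C} (hx6 : x ^ 6 = z) (hx : ρ x = g12) {g : C} (hg : g * x = x * g) :
    g ∈ zpowers x := by
  have hr := rho_range M g
  have h1 : ρ g * g12 = g12 * ρ g := by rw [← hx, ← map_mul, ← map_mul, hg]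
  obtain ⟨k, h2 | h2⟩ := cent12 (ρ g).σ (ρ g).s hr.1 hr.2 h1
  · have h3 : ρ g = ρ (x ^ (k : ℕ)) := by rw [map_pow, hx]; exact h2
    rcases eq_or M h3 with h4 | h4
    · rw [h4]; exact npow_mem_zpowers x k
    · rw [h4, ← hx6, ← pow_add]; exact npow_mem_zpowers x _
  · exfalso
    have hw : ρ (v 4) = w12 := by
      rw [Cfsg.Agent.H419.Spor.JModel.rho_v M]
      decide +kernel
    have h3 : ρ g = ρ (v 4 * x ^ (k : ℕ)) := by rw [map_mul, map_pow, hx, hw]; exact h2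
    have h4 : Commute (v 4) x := by
      have hxk : Commute (x ^ (k : ℕ)) x := (Commute.refl x).pow_left _
      have hzx : Commute z x := zc M x
      rcases eq_or M h3 with h4 | h4
      · have h5 : v 4 = g * (x ^ (k : ℕ))⁻¹ := by rw [h4]; group
        rw [h5]
        exact Commute.mul_left hg hxk.inv_left
      · have h5 : v 4 = z⁻¹ * g * (x ^ (k : ℕ))⁻¹ := by rw [h4]; group
        rw [h5]
        exact Commute.mul_left (Commute.mul_left hzx.inv_left hg) hxk.inv_left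
    have h5 : x * v 4 * x⁻¹ = z * v 4 := by
      have h6 := M.conj x 4
      rw [hx] at h6
      have e1 : (g12.s 4) = 1 := by decide +kernel
      have e3 : (g12.σ 4) = 4 := by decide +kernel
      rwa [e1, e3, zp_one] at h6
    have h6 : x * v 4 * x⁻¹ = v 4 := by
      rw [← h4.eq, mul_inv_cancel_right]
    rw [h6] at h5
    exact M.z_ne (mul_eq_right.1 h5.symm)

theorem conj_eight {x y : C} (hx4 : x ^ 4 = z) (hx : ρ x = g8) (hy : y ^ 4 = z) :
    ∃ k : ℕ, IsConj (x ^ k) y := by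
  obtain ⟨h, hh⟩ := exists_conj8 M hy
  rw [← hx] at hh
  rcases eq_or M hh with h1 | h1
  · exact ⟨1, (isConj_iff.2 ⟨h, by rw [pow_one, h1]⟩ : IsConj y (x ^ 1)).symm⟩
  · rw [← hx4, ← pow_succ] at h1
    exact ⟨5, (isConj_iff.2 ⟨h, h1⟩ : IsConj y (x ^ 5)).symm⟩

theorem conj_twelve {x y : C} (hx6 : x ^ 6 = z) (hx : ρ x = g12) (hy : y ^ 6 = z)
    (hy' : y ^ 4 ≠ 1) : ∃ k : ℕ, IsConj (x ^ k) y := by
  obtain ⟨h, hh⟩ := exists_conj12 M hy hy'
  rw [← hx] at hh
  rcases eq_or M hh with h1 | h1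
  · exact ⟨1, (isConj_iff.2 ⟨h, by rw [pow_one, h1]⟩ : IsConj y (x ^ 1)).symm⟩
  · rw [← hx6, ← pow_succ] at h1
    exact ⟨7, (isConj_iff.2 ⟨h, h1⟩ : IsConj y (x ^ 7)).symm⟩

theorem exists_eight : ∃ x : C, x ^ 4 = z ∧ ρ x = g8 := by
  obtain ⟨x, hx⟩ := Cfsg.Agent.H419.Spor.JModel.exists_eight M
  obtain ⟨h, hh⟩ := exists_conj8 M hx
  exact ⟨h * x * h⁻¹, by rw [conj_pow, hx, M.z_comm, mul_inv_cancel_right], hh⟩

theorem exists_twelve : ∃ x : C, x ^ 6 = z ∧ x ^ 4 ≠ 1 ∧ ρ x = g12 := by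
  obtain ⟨x, hx, hx'⟩ := Cfsg.Agent.H419.Spor.JModel.exists_twelve M
  obtain ⟨h, hh⟩ := exists_conj12 M hx hx'
  exact ⟨h * x * h⁻¹, by rw [conj_pow, hx, M.z_comm, mul_inv_cancel_right],
    by rwa [conj_pow, Ne, conj_eq_one_iff], hh⟩

theorem not_conj_ten {x : C} (hx : ρ x = Cfsg.Agent.H419.Spor.JModel.g5) (g : C) :
    g * x * g⁻¹ ≠ x ^ 3 := by
  intro h
  rw [mul_inv_eq_iff_eq_mul] at h
  have h1 := congrArg (fun c => (ρ c).σ) h
  simp only [map_mul, mul_σ, σ_pow M, hx] at h1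
  exact not_conj_c5 (ρ g).σ (rho_range M g).1 h1

end model

section group

variable {G : Type v} [Group G] [Finite G] {t : G}

theorem mem_cent {x : G} {n : ℕ} (h : x ^ n = t) : x ∈ centralizer ({t} : Set G) := by
  rw [mem_centralizer_singleton_iff, ← h]
  exact ((Commute.refl x).pow_right n).eq

variable {Q : Subgroup (centralizer ({t} : Set G))} {v : Fin 5 → centralizer ({t} : Set G)}
  {ρ : centralizer ({t} : Set G) →* SP} {z : centralizer ({t} : Set G)}

/-- centralizers in the group from centralizers in `C(t)` -/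
theorem cent_le (hz : (z : G) = t) {x : centralizer ({t} : Set G)} {n : ℕ} (hx : x ^ n = z)
    (hc : ∀ g, g * x = x * g → g ∈ zpowers x) :
    centralizer ({(x : G)} : Set G) ≤ zpowers (x : G) := by
  intro g hg
  have hg' : g * (x : G) = x * g := mem_centralizer_singleton_iff.1 hg
  have hx' : (x : G) ^ n = t := (congrArg Subtype.val hx).trans hz
  have hgt : g ∈ centralizer ({t} : Set G) := by
    rw [mem_centralizer_singleton_iff, ← hx']
    exact ((show Commute g (x : G) from hg').pow_right n).eq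
  obtain ⟨k, hk⟩ := mem_zpowers_iff.1 (hc ⟨g, hgt⟩ (Subtype.ext hg'))
  exact mem_zpowers_iff.2 ⟨k, congrArg Subtype.val hk⟩

/-- images under automorphisms -/
theorem exists_conj_aut (hz : (z : G) = t) (hα : ∀ α : MulAut G, IsConj t (α t))
    {x : centralizer ({t} : Set G)} {n : ℕ} (hx : x ^ n = z) (P : G → Prop)
    (hP : ∀ y g, P y → P (g * y * g⁻¹)) (hPx : ∀ α : MulAut G, P (α x))
    (hc : ∀ y : centralizer ({t} : Set G), y ^ n = z → P y → ∃ k : ℕ, IsConj (x ^ k) y)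
    (α : MulAut G) : ∃ k : ℕ, IsConj ((x : G) ^ k) (α x) := by
  obtain ⟨g, hg⟩ := isConj_iff.1 (hα α)
  have hx' : (x : G) ^ n = t := (congrArg Subtype.val hx).trans hz
  have hy : (g⁻¹ * α x * g) ^ n = t := by
    have h1 : g⁻¹ * α x * g = g⁻¹ * α x * (g⁻¹)⁻¹ := by rw [inv_inv]
    rw [h1, conj_pow, ← map_pow, hx', ← hg]
    group
  have hyP : P (g⁻¹ * α x * g) := by
    have h1 := hP (α x) g⁻¹ (hPx α)
    rwa [inv_inv] at h1
  obtain ⟨k, hk⟩ := hc ⟨_, mem_cent hy⟩ (Subtype.ext (hy.trans hz.symm)) hyP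
  refine ⟨k, ?_⟩
  obtain ⟨c, hc⟩ := isConj_iff.1 hk
  refine isConj_iff.2 ⟨g * c, ?_⟩
  have h2 : (c : G) * (x : G) ^ k * (c : G)⁻¹ = g⁻¹ * α x * g := congrArg Subtype.val hc
  calc g * c * (x : G) ^ k * (g * c)⁻¹ = g * ((c : G) * (x : G) ^ k * (c : G)⁻¹) * g⁻¹ := by group
    _ = α x := by rw [h2]; group

/-- The row. -/
theorem row_of_model (hz : (z : G) = t) (M : IsModel Q z v ρ)
    (hα : ∀ α : MulAut G, IsConj t (α t)) (hk : 12 < Nat.card (ConjClasses G)) :
    Row.{u, v} G := by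
  obtain ⟨x, hx, hx1⟩ := exists_eight M
  obtain ⟨y, hy, hy', hy1⟩ := exists_twelve M
  have hox : orderOf x = 8 := by
    refine Cfsg.Agent.H419.Spor.JModel.orderOf_of_pow M (n := 4) (by norm_num) hx fun p hp h2 hd => ?_
    exact absurd ((Nat.prime_dvd_prime_iff_eq hp Nat.prime_two).1
      (hp.dvd_of_dvd_pow (show p ∣ 2 ^ 2 from hd))) h2
  have hoy : orderOf y = 12 := by
    refine Cfsg.Agent.H419.Spor.JModel.orderOf_of_pow M (n := 6) (by norm_num) hy fun p hp h2 hd => ?_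
    have h3 : p = 3 := by
      have : p ∣ 2 * 3 := hd
      rcases hp.dvd_mul.1 this with h | h
      · exact absurd ((Nat.prime_dvd_prime_iff_eq hp Nat.prime_two).1 h) h2
      · exact (Nat.prime_dvd_prime_iff_eq hp Nat.prime_three).1 h
    subst h3
    exact hy'
  have hox' : orderOf (x : G) = 8 := by rw [Subgroup.orderOf_coe, hox]
  have hoy' : orderOf (y : G) = 12 := by rw [Subgroup.orderOf_coe, hoy]
  have vx : VZ G (x : G) := by
    refine vz_of_card _ (lt_of_le_of_lt (Subgroup.card_le_of_le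
      (cent_le hz hx fun g hg => cent_eight M hx hx1 hg)) ?_) fun α => ?_
    · rw [Nat.card_zpowers, hox']
      omega
    · exact exists_conj_aut hz hα hx (fun _ => True) (fun _ _ _ => trivial) (fun _ => trivial)
        (fun y hy _ => conj_eight M hx hx1 hy) α
  have vy : VZ G (y : G) := by
    refine vz_of_card _ (lt_of_le_of_lt (Subgroup.card_le_of_le
      (cent_le hz hy fun g hg => cent_twelve M hy hy1 hg)) ?_) fun α => ?_
    · rw [Nat.card_zpowers, hoy']
      omega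
    · refine exists_conj_aut hz hα hy (fun a => a ^ 4 ≠ 1) (fun a g ha => ?_) (fun α => ?_)
        (fun a ha ha' => conj_twelve M hy hy1 ha fun h => ha' (congrArg Subtype.val h)) α
      · rwa [conj_pow, Ne, conj_eq_one_iff]
      · rw [← map_pow, Ne, EmbeddingLike.map_eq_one_iff]
        exact fun h => hy' (Subtype.ext h)
  exact row_of_vz vx vy (by rw [hox', hoy']; norm_num) (d := 4) (by norm_num)
    (by rw [hox']; norm_num) (by rw [hoy']; norm_num)

/-- An element of order ten which generates its centralizer and is not conjugate to its cube. -/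
theorem exists_ten (hz : (z : G) = t) (M : IsModel Q z v ρ) :
    ∃ x : G, orderOf x = 10 ∧ x ^ 5 = t ∧ centralizer ({x} : Set G) ≤ zpowers x ∧
      ∀ g, g * x * g⁻¹ ≠ x ^ 3 := by
  obtain ⟨x, hx5, hx⟩ := Cfsg.Agent.H419.Spor.JModel.exists_ten M
  have hx' : (x : G) ^ 5 = t := (congrArg Subtype.val hx5).trans hz
  have hox : orderOf x = 10 := by
    refine Cfsg.Agent.H419.Spor.JModel.orderOf_of_pow M (n := 5) (by norm_num) hx5 fun p hp h2 hd => ?_
    have h3 : p = 5 := (Nat.prime_dvd_prime_iff_eq hp Nat.prime_five).1 hd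
    subst h3
    intro h
    apply Cfsg.Agent.H419.Spor.JModel.g5_sq
    rw [← hx, ← map_pow]
    change x ^ 2 = 1 at h
    rw [h, map_one]
  have hox' : orderOf (x : G) = 10 := by rw [Subgroup.orderOf_coe, hox]
  refine ⟨x, hox', hx', cent_le hz hx5 fun g hg =>
    Cfsg.Agent.H419.Spor.JModel.cent_ten M hx5 hx hg, fun g hg => ?_⟩
  have hx10 : (x : G) ^ 10 = 1 := by rw [← hox', pow_orderOf_eq_one]
  have ht2 : t ^ 2 = 1 := by
    rw [← hx', ← pow_mul]
    exact hx10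
  have hgt : g * t * g⁻¹ = t := by
    have h1 : (g * x * g⁻¹) ^ 5 = ((x : G) ^ 3) ^ 5 := by rw [hg]
    rw [conj_pow, hx', ← pow_mul, mul_comm 3 5, pow_mul, hx'] at h1
    rw [h1, pow_succ, ht2, one_mul]
  have hgm : g ∈ centralizer ({t} : Set G) := by
    rw [mem_centralizer_singleton_iff]
    exact mul_inv_eq_iff_eq_mul.1 hgt
  exact not_conj_ten M hx ⟨g, hgm⟩ (Subtype.ext hg)

end group

section sylow

/-- A 2-group whose involution `t` has centralizer `{1, t}` is `{1, t}`. -/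
theorem two_group_small {D : Type*} [Group D] [Finite D] (T : Sylow 2 D) {t : D} (ht : t ∈ T)
    (hc : ∀ g ∈ T, g * t = t * g → g = 1 ∨ g = t) (ht1 : t ≠ 1) : ∀ g ∈ T, g = 1 ∨ g = t := by
  have : Fact (Nat.Prime 2) := ⟨Nat.prime_two⟩
  have hT : IsPGroup 2 T := T.isPGroup'
  have : Nontrivial T := ⟨⟨⟨t, ht⟩, 1, fun h => ht1 (congrArg Subtype.val h)⟩⟩
  have hce : Nontrivial (Subgroup.center T) := hT.center_nontrivial
  obtain ⟨⟨c, hcc⟩, hc1⟩ := exists_ne (1 : Subgroup.center T)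
  have h1 : ∀ g : T, g * c = c * g := fun g => (Subgroup.mem_center_iff.1 hcc g)
  have h2 : (c : D) = t := by
    rcases hc c c.2 (congrArg Subtype.val (h1 ⟨t, ht⟩)).symm with h | h
    · exact absurd (Subtype.ext (Subtype.ext h)) hc1
    · exact h
  intro g hg
  exact hc g hg (by rw [← h2]; exact congrArg Subtype.val (h1 ⟨g, hg⟩))

/-- Two involutions `t, t'` are conjugate if `C(t)` has the trivial Sylow structure. -/
theorem conj_of_small {D : Type*} [Group D] [Finite D] {t t' : D} (ht : orderOf t = 2)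
    (ht' : orderOf t' = 2)
    (hc : ∀ g : D, (∃ k, orderOf g = 2 ^ k) → g * t = t * g → g = 1 ∨ g = t) :
    ∃ d : D, d * t' * d⁻¹ = t := by
  have : Fact (Nat.Prime 2) := ⟨Nat.prime_two⟩
  have h1 : IsPGroup 2 (zpowers t) := IsPGroup.of_card (n := 1) (by rw [Nat.card_zpowers, ht, pow_one])
  have h1' : IsPGroup 2 (zpowers t') := IsPGroup.of_card (n := 1) (by rw [Nat.card_zpowers, ht', pow_one])
  obtain ⟨T, hT⟩ := h1.exists_le_sylow
  obtain ⟨T', hT'⟩ := h1'.exists_le_sylow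
  have htT : t ∈ T := hT (mem_zpowers t)
  have ht1 : t ≠ 1 := fun h => by rw [h, orderOf_one] at ht; omega
  have ht1' : t' ≠ 1 := fun h => by rw [h, orderOf_one] at ht'; omega
  have h2 := two_group_small T htT (fun g hg => hc g ?_) ht1
  · obtain ⟨d, hd⟩ := MulAction.exists_smul_eq D T' T
    have h3 : d * t' * d⁻¹ ∈ T := by
      rw [← hd]
      have h4 : t' ∈ (T' : Subgroup D) := hT' (mem_zpowers t')
      have h5 := Subgroup.smul_mem_pointwise_smul t' (MulAut.conj d) (T' : Subgroup D) h4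
      exact h5
    refine ⟨d, (h2 _ h3).resolve_left fun h => ht1' ?_⟩
    rwa [conj_eq_one_iff] at h
  · obtain ⟨k, hk⟩ := IsPGroup.iff_orderOf.1 T.isPGroup' ⟨g, hg⟩
    refine ⟨k, ?_⟩
    rw [← hk, Subgroup.orderOf_mk]

/-- Non-conjugacy of `x ^ 6` and its cube. -/
theorem not_conj_five {G : Type*} [Group G] [Finite G] {t x : G} (hx : orderOf x = 10) (hx5 : x ^ 5 = t)
    (hle : centralizer ({x} : Set G) ≤ zpowers x) (hn : ∀ g, g * x * g⁻¹ ≠ x ^ 3) (g : G) :
    g * x ^ 6 * g⁻¹ ≠ (x ^ 6) ^ 3 := by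
  intro hg
  have ht : orderOf t = 2 := by rw [← hx5, orderOf_pow' _ (by norm_num), hx]; norm_num
  have hx10 : x ^ 10 = 1 := by rw [← hx, pow_orderOf_eq_one]
  have hx6 : ((x ^ 6) ^ 3) ^ 2 = x ^ 6 := by
    rw [← pow_mul, ← pow_mul, show 6 * 3 * 2 = 10 * 3 + 6 from rfl, pow_add, pow_mul x 10, hx10,
      one_pow, one_mul]
  set D := centralizer ({x ^ 6} : Set G) with hD
  have htD : t ∈ D := by
    rw [hD, mem_centralizer_singleton_iff, ← hx5]
    exact ((Commute.refl x).pow_pow 5 6).eq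
  have htD' : g * t * g⁻¹ ∈ D := by
    rw [hD, mem_centralizer_singleton_iff]
    have h1 : Commute (g * t * g⁻¹) ((x ^ 6) ^ 3) := by
      rw [← hg]
      have h2 : Commute t (x ^ 6) := mem_centralizer_singleton_iff.1 htD
      show g * t * g⁻¹ * (g * x ^ 6 * g⁻¹) = g * x ^ 6 * g⁻¹ * (g * t * g⁻¹)
      calc g * t * g⁻¹ * (g * x ^ 6 * g⁻¹) = g * (t * x ^ 6) * g⁻¹ := by group
        _ = g * (x ^ 6 * t) * g⁻¹ := by rw [h2.eq]
        _ = _ := by group
    have h3 := h1.pow_right 2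
    rw [hx6] at h3
    exact h3.eq
  obtain ⟨d, hd⟩ := conj_of_small (D := D) (t := ⟨t, htD⟩) (t' := ⟨g * t * g⁻¹, htD'⟩)
    (by rw [Subgroup.orderOf_mk, ht])
    (by
      rw [Subgroup.orderOf_mk, ← ht]
      exact MulEquiv.orderOf_eq (MulAut.conj g) t)
    (by
      rintro ⟨a, ha⟩ ⟨k, hk⟩ hc
      have hc' : a * t = t * a := congrArg Subtype.val hc
      have ha' : Commute a (x ^ 6) := mem_centralizer_singleton_iff.1 (hD ▸ ha)
      have h1 : a ∈ zpowers x := by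
        apply hle
        rw [mem_centralizer_singleton_iff]
        have h2 : x = t * x ^ 6 := by
          rw [← hx5, ← pow_add, show 5 + 6 = 10 + 1 from rfl, pow_succ, hx10, one_mul]
        rw [h2]
        exact (Commute.mul_right hc' ha').eq
      rw [Subgroup.orderOf_mk] at hk
      have h3 : orderOf a ∣ 2 := by
        have h4 : orderOf a ∣ 10 := hx ▸ orderOf_dvd_of_mem_zpowers h1
        rw [hk] at h4 ⊢
        have h5 : Nat.Coprime (2 ^ k) 5 := Nat.Coprime.pow_left k (by norm_num)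
        exact h5.dvd_of_dvd_mul_right (show 2 ^ k ∣ 2 * 5 from h4)
      have h4 : a ^ 2 = 1 := orderOf_dvd_iff_pow_eq_one.1 h3
      -- the elements of order two in a cyclic group
      obtain ⟨m, hm⟩ := (mem_powers_iff_mem_zpowers (x := x)).2 h1 |> fun h => (Submonoid.mem_powers_iff _ _).1 h
      have h5 : 10 ∣ m * 2 := by
        rw [← hx]
        apply orderOf_dvd_of_pow_eq_one
        rw [pow_mul, hm, h4]
      have h6 : 5 ∣ m := by omega
      obtain ⟨n, rfl⟩ := h6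
      rw [pow_mul, hx5] at hm
      have ht2 : t ^ 2 = 1 := by rw [← ht, pow_orderOf_eq_one]
      rcases Nat.even_or_odd' n with ⟨c, rfl | rfl⟩
      · left
        apply Subtype.ext
        show a = 1
        rw [← hm, pow_mul, ht2, one_pow]
      · right
        apply Subtype.ext
        show a = t
        rw [← hm, pow_succ, pow_mul, ht2, one_pow, one_mul])
  have hd' : (d : G) * (g * t * g⁻¹) * (d : G)⁻¹ = t := congrArg Subtype.val hd
  have hdc : Commute (d : G) (x ^ 6) := mem_centralizer_singleton_iff.1 d.2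
  apply hn (d * g)
  have h2 : x = t * x ^ 6 := by
    rw [← hx5, ← pow_add, show 5 + 6 = 10 + 1 from rfl, pow_succ, hx10, one_mul]
  have h7 : x ^ 3 = t * (x ^ 6) ^ 3 := by
    rw [← hx5, ← pow_mul, ← pow_add, show 5 + 6 * 3 = 10 * 2 + 3 from rfl, pow_add, pow_mul x 10, hx10,
      one_pow, one_mul]
  calc (d : G) * g * x * ((d : G) * g)⁻¹ = (d : G) * g * (t * x ^ 6) * ((d : G) * g)⁻¹ := by rw [← h2]
    _ = ((d : G) * (g * t * g⁻¹) * (d : G)⁻¹) * ((d : G) * (g * x ^ 6 * g⁻¹) * (d : G)⁻¹) := by group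
    _ = t * ((d : G) * (x ^ 6) ^ 3 * (d : G)⁻¹) := by rw [hd', hg]
    _ = t * (x ^ 6) ^ 3 := by rw [(hdc.pow_right 3).eq, mul_inv_cancel_right]
    _ = x ^ 3 := h7.symm


end sylow

section rows

variable {G : Type v} [Group G] [Finite G] {t : G}
variable {Q : Subgroup (centralizer ({t} : Set G))} {v : Fin 5 → centralizer ({t} : Set G)}
  {ρ : centralizer ({t} : Set G) →* SP} {z : centralizer ({t} : Set G)}

/-- The elements of order five come in two non-conjugate versions, and those of order ten. -/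
theorem two_versions (hz : (z : G) = t) (M : IsModel Q z v ρ) :
    ∀ n ∈ ({5, 10} : Finset ℕ), ∃ g h : G, orderOf g = n ∧ orderOf h = n ∧ ¬ IsConj g h := by
  obtain ⟨x, hx, hx5, hle, hn⟩ := exists_ten hz M
  intro n hn'
  simp only [Finset.mem_insert, Finset.mem_singleton] at hn'
  rcases hn' with rfl | rfl
  · refine ⟨x ^ 6, (x ^ 6) ^ 3, ?_, ?_, fun h => ?_⟩
    · rw [orderOf_pow' _ (by norm_num), hx]
      norm_num
    · rw [← pow_mul, orderOf_pow' _ (by norm_num), hx]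
      norm_num
    · obtain ⟨g, hg⟩ := isConj_iff.1 h
      exact not_conj_five hx hx5 hle hn g hg
  · refine ⟨x, x ^ 3, hx, ?_, fun h => ?_⟩
    · rw [orderOf_pow' _ (by norm_num), hx]
      norm_num
    · obtain ⟨g, hg⟩ := isConj_iff.1 h
      exact hn g hg

theorem row_of_orders (hz : (z : G) = t) (M : IsModel Q z v ρ)
    (hα : ∀ α : MulAut G, IsConj t (α t)) (s t' : Finset ℕ) (hs : ∀ n ∈ s, ∃ g : G, orderOf g = n)
    (ht' : ∀ n ∈ t', ∃ g h : G, orderOf g = n ∧ orderOf h = n ∧ ¬ IsConj g h)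
    (hk : 12 < s.card + t'.card) : Row.{u, v} G :=
  row_of_model hz M hα (lt_of_lt_of_le hk (le_card_conjClasses_two s t' hs ht'))

end rows

end Cfsg.Agent.H713.Spor.JJ
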