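import Cfsg.Agent.H713.Spor.JJ
import Cfsg.Agent.CpAutJThree.Row

/-! # The row of `J3` (helper713) -/

set_option autoImplicit false

namespace Cfsg.Agent.H713.Spor.JThree

open Cfsg Cfsg.Agent.H713 Subgroup

universe u v

theorem row_j3 {K : Type v} [Group K] [Finite K] (h : Spor.IsoJ3 K) : Row.{u, v} K := by
  obtain ⟨hcard, hM, hone, -⟩ := Cfsg.Agent.CpAutJThree.base h
  have : Fact (Nat.Prime 2) := ⟨Nat.prime_two⟩
  obtain ⟨t, ht⟩ := exists_prime_orderOf_dvd_card' (G := K) 2 (by rw [hcard]; norm_num)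
  obtain ⟨-, hC, Q, v, ρ, M⟩ := hM t ht
  refine JJ.row_of_orders rfl M (fun α => hone _ _ ht ?_) {1, 2, 3, 4, 5, 6, 8, 10, 12, 17, 19}
    {5, 10} ?_ (JJ.two_versions rfl M) (by decide)
  · rw [MulEquiv.orderOf_eq, ht]
  · intro n hn
    by_cases h9 : n ∈ ({1, 2, 3, 4, 5, 6, 8, 10, 12} : Finset ℕ)
    · exact Cfsg.Agent.H419.Spor.JModel.exists_orders' M n h9
    · have h3 : n = 17 ∨ n = 19 := by
        simp only [Finset.mem_insert, Finset.mem_singleton] at hn h9
        omega
      have hp : n.Prime := by rcases h3 with rfl | rfl <;> norm_num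
      have : Fact n.Prime := ⟨hp⟩
      exact exists_prime_orderOf_dvd_card' n (by
        rw [hcard]
        rcases h3 with rfl | rfl <;> norm_num)

end Cfsg.Agent.H713.Spor.JThree
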