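import Cfsg.Agent.H713.Spor.JJ
import Cfsg.Agent.KFacts.J2.Facts

/-! # The row of `J2` (helper713) -/

set_option autoImplicit false

namespace Cfsg.Agent.H713.Spor.JTwo

open Cfsg Cfsg.Agent.H713 Subgroup
open Cfsg.Agent.KFacts.J2.Basic

universe u v

theorem row_j2 {K : Type v} [Group K] [Finite K] (h : Spor.IsoJ2 K) : Row.{u, v} K := by
  obtain ⟨t, u, Q, v, ρ, D⟩ := Cfsg.Agent.KFacts.J2.Facts.exists_dat_of h
  have hcard := D.card
  refine JJ.row_of_orders rfl D.M (fun α => D.isConj_aut α) {1, 2, 3, 4, 5, 6, 7, 8, 10, 12}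
    {2, 5, 10} ?_ ?_ (by decide)
  · intro n hn
    by_cases h9 : n ∈ ({1, 2, 3, 4, 5, 6, 8, 10, 12} : Finset ℕ)
    · exact Cfsg.Agent.H419.Spor.JModel.exists_orders' D.M n h9
    · have h3 : n = 7 := by
        simp only [Finset.mem_insert, Finset.mem_singleton] at hn h9
        omega
      subst h3
      have : Fact (Nat.Prime 7) := ⟨by norm_num⟩
      exact exists_prime_orderOf_dvd_card' 7 (by rw [hcard]; norm_num)
  · intro n hn
    rw [Finset.mem_insert] at hn
    rcases hn with rfl | hn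
    · exact ⟨t, u, D.F.hz, D.F.hu, D.F.nconj⟩
    · exact JJ.two_versions rfl D.M n hn

end Cfsg.Agent.H713.Spor.JTwo
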