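import Cfsg.Agent.BabyComp.BaseTwo
import Cfsg.Agent.MonsterN.CardK
import Cfsg.Agent.Blocks.SylowIn

/-!
# Elements of the Baby Monster commuting with an involution (helper713)

`q : B → X` onto with kernel `{1, τ}`, `B = C_Γ(θ τ)`, `Γ` the Monster, `X` the Baby Monster.
`dvd_or_dvd` : if an odd prime `p` divides the order of the centralizer of an involution of `X` then
it divides the order of the centralizer of a transposition of `X` or the order of `C_Γ(z)`
(`z` in the class 2B of the Monster).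
-/

set_option autoImplicit false
set_option linter.unusedSectionVars false

namespace Cfsg.Agent.H713.Spor.BOf

open Subgroup Cfsg Cfsg.Agent.R01.Lifts Cfsg.Agent.MonsterN Cfsg.Agent.MonsterN.Lit
open Cfsg.Agent.BabyComp Cfsg.Agent.BabyComp.Main Cfsg.Agent.BabyComp.BaseTwo

section

variable {B X E : Type*} [Group B] [Group X] [Group E] [Finite B] [Finite X] {q : B →* X} {τ : B} {R : Set E}
variable {y : ℕ → B} {h : Pre y} {π : KK y →* E} {f₁ f₂ f₃ f₄ : B} {p : ℕ}

/-- An element of `B` commuting modulo `τ` with an element of odd order commutes with it. -/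
theorem comm_of_map (hq : Ext q τ) {b x : B} (hp : Odd p) (hx : x ^ p = 1) (hbx : q b * q x = q x * q b) :
    b * x = x * b := by
  rcases hq.conj_of_commute (g := b) (a := x) hbx with h1 | h1
  · exact mul_inv_eq_iff_eq_mul.1 h1
  · exfalso
    have h2 : (b * x * b⁻¹) ^ p = 1 := by rw [conj_pow, hx, mul_one, mul_inv_cancel]
    rw [h1] at h2
    have h3 : Commute x τ := hq.comm x
    rw [h3.mul_pow, hx, one_mul] at h2
    apply hq.zne
    obtain ⟨k, rfl⟩ := hp
    rw [pow_succ, pow_mul, pow_two, hq.zz, one_pow, one_mul] at h2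
    exact h2

/-- Elements of odd order lift. -/
theorem exists_lift (hq : Ext q τ) (hp : Odd p) {v : X} (hv : v ^ p = 1) : ∃ x : B, x ^ p = 1 ∧ q x = v := by
  obtain ⟨x, rfl⟩ := hq.surj v
  rcases (hq.ker (x ^ p)).1 (by rw [map_pow, hv]) with h1 | h1
  · exact ⟨x, h1, rfl⟩
  · refine ⟨x * τ, ?_, by rw [map_mul, hq.mapz, mul_one]⟩
    have h3 : Commute x τ := hq.comm x
    obtain ⟨k, rfl⟩ := hp
    rw [h3.mul_pow, h1, pow_succ τ, pow_mul, pow_two, hq.zz, one_pow, one_mul, hq.zz]

theorem dvd_of_comm {G : Type*} [Group G] [Finite G] {a b : G} (hp : p.Prime) (hb : b ^ p = 1) (hb1 : b ≠ 1)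
    (hab : b * a = a * b) : p ∣ Nat.card (centralizer ({a} : Set G)) := by
  have : Fact p.Prime := ⟨hp⟩
  have h1 : b ∈ centralizer ({a} : Set G) := mem_centralizer_singleton_iff.2 hab
  rw [← orderOf_eq_prime hb hb1, ← Subgroup.orderOf_mk b h1]
  exact orderOf_dvd_natCard _

/-- The case of an involution of `B`. -/
theorem at_inv (hq : Ext q τ) (Fc : FusionType.Facts τ f₁ f₂ f₃ f₄)
    {Γ : Type*} [Group Γ] [Finite Γ] {θ : B →* Γ} (hθ : Function.Injective θ) {z : Γ}
    (hcz : IsConj z (θ (τ * (f₁ * f₂)))) (hcd : IsConj z (θ (f₁ * f₂ * f₃)))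
    (hc5 : IsConj f₁ (y 5)) (hp : p.Prime) (hodd : Odd p)
    {x b : B} (hx : x ^ p = 1) (hx1 : x ≠ 1) (hbb : b * b = 1) (hb1 : b ≠ 1) (hbτ : b ≠ τ)
    (hbx : b * x = x * b) :
    p ∣ Nat.card (centralizer ({q (y 5)} : Set X)) ∨ p ∣ Nat.card (centralizer ({z} : Set Γ)) := by
  have hxq : (q x) ^ p = 1 := by rw [← map_pow, hx, map_one]
  have hxq1 : q x ≠ 1 := by
    intro h1
    rcases (hq.ker _).1 h1 with h2 | h2
    · exact hx1 h2
    · rw [h2] at hx
      apply hq.zne
      obtain ⟨k, rfl⟩ := hodd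
      rw [pow_succ, pow_mul, pow_two, hq.zz, one_pow, one_mul] at hx
      exact hx
  have hxθ : (θ x) ^ p = 1 := by rw [← map_pow, hx, map_one]
  have hxθ1 : θ x ≠ 1 := fun h1 => hx1 (hθ (by rw [h1, map_one]))
  have hz : ∀ v : B, v * x = x * v → IsConj z (θ v) → p ∣ Nat.card (centralizer ({z} : Set Γ)) := by
    intro v hv hvz
    rw [← Cfsg.Agent.Blocks.SylowIn.card_centralizer_of_isConj hvz]
    exact dvd_of_comm hp hxθ hxθ1 (by rw [← map_mul, ← map_mul, hv])
  rcases Fc.classes b hbb hb1 hbτ with h1 | h1 | h1 | h1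
  · left
    have h2 : IsConj (q (y 5)) (q b) := q.map_isConj (hc5.symm.trans h1)
    rw [← Cfsg.Agent.Blocks.SylowIn.card_centralizer_of_isConj h2]
    exact dvd_of_comm hp hxq hxq1 (by rw [← map_mul, ← map_mul, hbx])
  · right
    refine hz (τ * b) ?_ (hcz.trans (θ.map_isConj (FusionType.conj_mul_t Fc.cen h1)))
    calc τ * b * x = τ * (b * x) := by group
      _ = (τ * x) * b := by rw [hbx]; group
      _ = x * (τ * b) := by rw [← hq.comm]; group
  · exact Or.inr (hz b hbx (hcz.trans (θ.map_isConj h1)))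
  · exact Or.inr (hz b hbx (hcd.trans (θ.map_isConj h1)))

/-- **The main statement.** -/
theorem dvd_or_dvd {F : Type*} [Field F] [Fintype F] {hF : Fintype.card F = 2 ^ 2}
    (hR : Cfsg.Agent.BabyU.RootCfg.RootFacts hF R) (hX : Cfsg.Agent.BabyU.Key.Extra hF R)
    (Rt : Cfsg.Agent.BabyU.Lab.Roots E R)
    (hq : Ext q τ) (h10 : y 10 = τ) (D : KD h R π) (Fc : FusionType.Facts τ f₁ f₂ f₃ f₄)
    {Γ : Type*} [Group Γ] [Finite Γ] {θ : B →* Γ} (hθ : Function.Injective θ) {z : Γ}
    (hcz : IsConj z (θ (τ * (f₁ * f₂)))) (hcd : IsConj z (θ (f₁ * f₂ * f₃)))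
    (hc5 : IsConj f₁ (y 5)) (big : KEq.Big B τ (y 5)) {M₁ : Subgroup X} (Bs : Base2 (q (y 5)) M₁)
    (hp : p.Prime) (hp2 : p ≠ 2) {u : X} (hu : orderOf u = 2)
    (hd : p ∣ Nat.card (centralizer ({u} : Set X))) :
    p ∣ Nat.card (centralizer ({q (y 5)} : Set X)) ∨ p ∣ Nat.card (centralizer ({z} : Set Γ)) := by
  have hodd : Odd p := hp.odd_of_ne_two hp2
  have : Fact p.Prime := ⟨hp⟩
  obtain ⟨⟨v, hv⟩, hvo⟩ := exists_prime_orderOf_dvd_card' p hd
  rw [Subgroup.orderOf_mk] at hvo
  have hvp : v ^ p = 1 := by rw [← hvo, pow_orderOf_eq_one]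
  obtain ⟨x, hx, rfl⟩ := exists_lift hq hodd hvp
  have hux : u * q x = q x * u := (mem_centralizer_singleton_iff.1 hv).symm
  have hx1 : x ≠ 1 := by
    rintro rfl
    rw [map_one, orderOf_one] at hvo
    exact hp.one_lt.ne hvo
  have hqx1 : q x ≠ 1 := by
    intro e
    rw [e, orderOf_one] at hvo
    exact hp.one_lt.ne hvo
  have huu : u * u = 1 := by rw [← pow_two, ← hu, pow_orderOf_eq_one]
  have hu1 : u ≠ 1 := by
    rintro rfl
    rw [orderOf_one] at hu
    omega
  obtain ⟨b, rfl⟩ := hq.surj u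
  have hbx := comm_of_map hq hodd hx hux
  have hbb : b * b = 1 ∨ b * b = τ := (hq.ker _).1 (by rw [map_mul, huu])
  rcases hbb with hbb | hbb
  · exact at_inv hq Fc hθ hcz hcd hc5 hp hodd hx hx1 hbb (fun e => hu1 (by rw [e, map_one]))
      (fun e => hu1 (by rw [e, hq.mapz])) hbx
  · left
    have hM := BaseTwo.Base.eq_map hq h10 big Bs.toBase
    -- `u` has no conjugate in `M₁`
    have hno : ∀ g : X, g⁻¹ * q b * g ∉ M₁ := by
      intro g hg
      obtain ⟨c, rfl⟩ := hq.surj g
      obtain ⟨k, hk, hqk⟩ := M_le hq h10 big Bs.toBase _ hg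
      have hkk : k * k = 1 := by
        refine lift_sq hR hX Rt hq h10 D hk ?_
        rw [hqk]
        calc (q c)⁻¹ * q b * q c * ((q c)⁻¹ * q b * q c) = (q c)⁻¹ * (q b * q b) * q c := by group
          _ = 1 := by rw [huu]; group
      have h1 : q k = q (c⁻¹ * b * c) := by rw [hqk, map_mul, map_mul, map_inv]
      have h2 : k * k = τ := by
        have h3 : c⁻¹ * b * c * (c⁻¹ * b * c) = τ := by
          calc c⁻¹ * b * c * (c⁻¹ * b * c) = c⁻¹ * (b * b) * c := by group
            _ = c⁻¹ * (τ * c) := by rw [hbb, mul_assoc]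
            _ = c⁻¹ * (c * τ) := by rw [hq.comm]
            _ = τ := by group
        rcases hq.map_eq.1 h1 with h4 | h4
        · rw [h4, h3]
        · rw [h4]
          calc c⁻¹ * b * c * τ * (c⁻¹ * b * c * τ) = c⁻¹ * b * c * (τ * (c⁻¹ * b * c)) * τ := by group
            _ = c⁻¹ * b * c * (c⁻¹ * b * c * τ) * τ := by rw [hq.comm (c⁻¹ * b * c)]
            _ = (c⁻¹ * b * c * (c⁻¹ * b * c)) * (τ * τ) := by group
            _ = τ := by rw [h3, hq.zz, mul_one]
      rw [hkk] at h2
      exact hq.zne h2.symm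
    rcases Bs.classes (q b) huu hu1 with ⟨g, hg⟩ | ⟨d, hd', hc, hud⟩
    · exact absurd hg (hno g)
    · obtain ⟨g, hg⟩ := isConj_iff.1 hd'
      obtain ⟨c, rfl⟩ := hq.surj g
      set t := q (y 5) with ht
      have htt : t * t = 1 := by rw [ht, ← map_mul, h.sq 5 (by norm_num) (by norm_num), map_one]
      have htM : t ∈ M₁ := by rw [hM]; exact ⟨y 5, h.five_mem, rfl⟩
      set u' : X := (q c)⁻¹ * q b * q c with hu'
      have hdt : (q c)⁻¹ * d * q c = t := by rw [← hg]; group
      have hu't : u' * t = t * u' := by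
        calc u' * t = (q c)⁻¹ * (q b * d) * q c := by rw [← hdt, hu']; group
          _ = (q c)⁻¹ * (d * q b) * q c := by rw [hc]
          _ = t * u' := by rw [← hdt, hu']; group
      -- the transposition `d' = t u'`
      have hd'T : IsConj t (t * u') := by
        refine hud.trans (isConj_iff.2 ⟨(q c)⁻¹, ?_⟩)
        rw [← hu't, inv_inv, ← hdt, hu']
        group
      have htd' : t * (t * u') = u' := by rw [← mul_assoc, htt, one_mul]
      have hd'M : t * u' ∉ M₁ := by
        intro h1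
        have h2 := M₁.mul_mem htM h1
        rw [htd'] at h2
        exact hno (q c) h2
      have hx' : orderOf ((q c)⁻¹ * q x * q c) = p := by
        have h3 : (q c)⁻¹ * q x * q c = MulAut.conj (q c)⁻¹ (q x) := by rw [MulAut.conj_apply, inv_inv]
        rw [h3, MulEquiv.orderOf_eq]
        exact hvo
      have h1 := Bs.comm_of_odd (t * u') ((q c)⁻¹ * q x * q c) hd'T (by rw [mul_assoc, hu't]) hd'M
        (by rw [hx']; exact hodd) (by
          rw [htd', hu']
          calc (q c)⁻¹ * q x * q c * ((q c)⁻¹ * q b * q c) = (q c)⁻¹ * (q x * q b) * q c := by group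
            _ = (q c)⁻¹ * (q b * q x) * q c := by rw [hux]
            _ = _ := by group)
      -- `x` commutes with a conjugate of `t`
      refine dvd_of_comm (b := (q c)⁻¹ * q x * q c) hp ?_ ?_ h1
      · rw [← hx', pow_orderOf_eq_one]
      · intro e
        rw [e, orderOf_one] at hx'
        exact hp.one_lt.ne hx'

end

end Cfsg.Agent.H713.Spor.BOf
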